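import Cfsg.Agent.Lib.GL23.Comb
import Mathlib.Data.List.Nodup
import Mathlib.Algebra.BigOperators.Group.Finset.Basic

/-!
# The coefficients of the exceptional functions, without a bound on the centralizer
-/

set_option autoImplicit false
set_option linter.unusedSectionVars false
set_option linter.unusedSimpArgs false

namespace CfsgLib.Suborbit3.Octa

open CfsgLib.GL23

variable {ι : Type*} [DecidableEq ι] [Fintype ι]

/-- The constituents of the three exceptional functions. -/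
structure Sys (σ : ι → ι) (z d mA mD mE : ι → ℤ) (P : ι) where
  /-- larger constituent of the first function -/
  a : ι
  /-- smaller constituent of the first function -/
  b : ι
  /-- last constituent of the third function -/
  e : ι
  /-- real constituent of the second function -/
  R : ι
  /-- non-real constituent of the second function -/
  Q : ι
  /-- coefficient of `a` -/
  α : ℤ
  /-- coefficient of `b` -/
  β : ℤ
  /-- coefficient of `e` -/
  γ : ℤ
  /-- coefficient of `R` -/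
  η : ℤ
  hα : α ^ 2 = 1
  hβ : β ^ 2 = 1
  hγ : γ ^ 2 = 1
  hη : η ^ 2 = 1
  nodup : [P, R, Q, σ Q, a, b, e].Nodup
  σR : σ R = R
  expA : ∀ w : ι → ℚ, ∑ i, (mA i : ℚ) * w i = w P + (α : ℚ) * w a + (β : ℚ) * w b
  expD : ∀ w : ι → ℚ, ∑ i, (mD i : ℚ) * w i = (η : ℚ) * w R - (η : ℚ) * w Q
  expE : ∀ w : ι → ℚ, ∑ i, (mE i : ℚ) * w i =
    -(η : ℚ) * w R + (α : ℚ) * w a + (β : ℚ) * w b + (γ : ℚ) * w e
  uv : α * z a + β * z b = 7
  big : β * z b ≤ α * z a
  ze : γ * z e = 3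
  zR : z R = 2 * η
  zQ : z Q = -2 * η
  dab : 1 + α * d a + β * d b = 0
  dRe : η * d R = γ * d e - 1

set_option maxHeartbeats 1000000 in
/-- The structure of the three exceptional functions. -/
theorem exists_sys (σ : ι → ι) (hσ : ∀ i, σ (σ i) = i) (z d mA mD mE : ι → ℤ) (P : ι)
    (hd : ∀ i, 1 ≤ d i) (hzσ : ∀ i, z (σ i) = z i)
    (hAσ : ∀ i, mA (σ i) = mA i) (hEσ : ∀ i, mE (σ i) = mE i)
    (hAA : ∑ i, mA i ^ 2 = 3) (hDD : ∑ i, mD i ^ 2 = 2) (hEE : ∑ i, mE i ^ 2 = 4)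
    (hAD : ∑ i, mA i * mD i = 0) (hAE : ∑ i, mA i * mE i = 2) (hED : ∑ i, mE i * mD i = -1)
    (hDs : ∑ i, mD i * mD (σ i) = 1)
    (hAP : mA P = 1) (hDP : mD P = 0) (hEP : mE P = 0) (hzP : z P = 1) (hdP : d P = 1)
    (hσP : σ P = P) (hA1 : ∑ i, mA i * d i = 0) (hD1 : ∑ i, mD i * d i = 0)
    (hE1 : ∑ i, mE i * d i = 0) (hAt : ∑ i, mA i * z i = 8) (hDt : ∑ i, mD i * z i = 4)
    (hEt : ∑ i, mE i * z i = 8) (g : ℤ) (hg : 0 < g)
    (hLD : (g : ℚ) * ∑ i, (mD i : ℚ) * ((z i : ℚ) ^ 2 / d i) = 0) :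
    Nonempty (Sys σ z d mA mD mE P) := by
  have hgq : (g : ℚ) ≠ 0 := Int.cast_ne_zero.2 hg.ne'
  obtain ⟨η, R, Q, hη, hRQ, hσR, hσQ, hσQR, hdRQ, hR, hQ, hrest⟩ :=
    exists_real_split σ hσ mD d hd hDD hD1 hDs
  have hη2 : η * η = 1 := by rcases hη with h | h <;> rw [h] <;> norm_num
  have hηne : η ≠ 0 := by rcases hη with h | h <;> omega
  -- values of the constituents of the difference at the involution
  have et := sum_mul_two mD z hRQ hrest
  simp only [Int.cast_eq, hDt, hR, hQ] at et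
  have hsq : z R ^ 2 = z Q ^ 2 := by
    have e := sum_mul_two mD (fun i => (z i : ℚ) ^ 2 / d i) hRQ hrest
    rw [e, hR, hQ] at hLD
    have hd0 : (d Q : ℚ) ≠ 0 := Int.cast_ne_zero.2 (by have := hd Q; omega)
    have hη0 : (η : ℚ) ≠ 0 := Int.cast_ne_zero.2 hηne
    have h1 := (mul_eq_zero.1 hLD).resolve_left hgq
    rw [hdRQ] at h1
    push_cast at h1
    field_simp at h1
    have h2 : (z R : ℚ) ^ 2 = (z Q : ℚ) ^ 2 := mul_left_cancel₀ hη0 (by linear_combination h1)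
    exact_mod_cast h2
  have hzz : z R = 2 * η ∧ z Q = -2 * η := by
    rcases sq_eq_sq_iff_eq_or_eq_neg.1 hsq with h | h
    · rw [h] at et
      have : (4 : ℤ) = 0 := by linear_combination et
      omega
    · rw [h] at et
      constructor <;> rcases hη with e | e <;> rw [e] at et ⊢ <;> omega
  -- the first function
  have hAQ : mA R = mA Q := by
    have e := sum_mul_two mD mA hRQ hrest
    rw [Finset.sum_congr rfl (fun i _ => mul_comm _ _)] at hAD
    simp only [Int.cast_eq, hAD, hR, hQ] at e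
    exact mul_left_cancel₀ hηne (by linarith)
  have hPR : P ≠ R := by rintro rfl; omega
  have hPQ : P ≠ Q := by rintro rfl; omega
  have hPσ : P ≠ σ Q := by
    intro h; apply hPQ; rw [← hσ Q, ← h, hσP]
  have hj : mA Q = 0 := by
    have h := Finset.sum_le_univ_sum_of_nonneg (fun i => sq_nonneg (mA i))
      (s := {P, R, Q, σ Q})
    rw [Finset.sum_insert (by simp [hPR, hPQ, hPσ]), Finset.sum_insert (by simp [hRQ, hσQR.symm]),
      Finset.sum_pair (Ne.symm hσQ), hAA, hAP, hAQ, hAσ] at h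
    nlinarith
  have hA2 : ∑ i ∈ Finset.univ.erase P, mA i ^ 2 = 2 := by
    have := Finset.add_sum_erase Finset.univ (fun i => mA i ^ 2) (Finset.mem_univ P)
    rw [hAA, hAP] at this
    linarith
  obtain ⟨a₀, ha₀, b₀, hb₀, hab₀, hsa₀, hsb₀, hrestA⟩ :=
    exists_two_of_sum_sq _ mA hA2
  have expand : ∀ {R' : Type} [CommRing R'] (w : ι → R'), ∑ i, (mA i : R') * w i =
      w P + ((mA a₀ : R') * w a₀ + (mA b₀ : R') * w b₀) := by
    intro R' _ w
    rw [← Finset.add_sum_erase Finset.univ _ (Finset.mem_univ P), hAP, Int.cast_one, one_mul]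
    congr 1
    rw [← Finset.sum_subset (s₁ := {a₀, b₀}) (Finset.insert_subset ha₀
      (Finset.singleton_subset_iff.2 hb₀)), Finset.sum_pair hab₀]
    intro i hi hi'
    simp only [Finset.mem_insert, Finset.mem_singleton, not_or] at hi'
    rw [hrestA i hi hi'.1 hi'.2, Int.cast_zero, zero_mul]
  have heq1 := expand (fun i => z i)
  simp only [Int.cast_eq, hAt, hzP] at heq1
  -- order the pair by its values at the involution
  obtain ⟨a, ha, b, hb, hab, hsa, hsb, hAt', hA1', expA, hAE', hbig⟩ :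
      ∃ a ∈ Finset.univ.erase P, ∃ b ∈ Finset.univ.erase P, a ≠ b ∧ mA a ^ 2 = 1 ∧ mA b ^ 2 = 1 ∧
        mA a * z a + mA b * z b = 7 ∧ 1 + mA a * d a + mA b * d b = 0 ∧
        (∀ w : ι → ℚ, ∑ i, (mA i : ℚ) * w i = w P + (mA a : ℚ) * w a + (mA b : ℚ) * w b) ∧
        mA a * mE a + mA b * mE b = 2 ∧ mA b * z b ≤ mA a * z a := by
    have e2 := expand (fun i => d i)
    simp only [Int.cast_eq, hA1, hdP] at e2
    have e4 := expand (fun i => mE i)
    simp only [Int.cast_eq, hAE, hEP] at e4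
    have p : mA a₀ ^ 2 = 1 := sq_eq_one_iff.2 hsa₀
    have q : mA b₀ ^ 2 = 1 := sq_eq_one_iff.2 hsb₀
    rcases le_total (mA b₀ * z b₀) (mA a₀ * z a₀) with h | h
    · exact ⟨a₀, ha₀, b₀, hb₀, hab₀, p, q, by linarith, by linarith,
        (fun w => by rw [expand w]; ring), by linarith, h⟩
    · exact ⟨b₀, hb₀, a₀, ha₀, hab₀.symm, q, p, by linarith, by linarith,
        (fun w => by rw [expand w]; ring), by linarith, h⟩
  have hne : ∀ x, mA x ^ 2 = 1 → x ≠ R ∧ x ≠ Q ∧ x ≠ σ Q := by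
    intro x hx
    refine ⟨?_, ?_, ?_⟩ <;> rintro rfl <;> simp [hAQ, hAσ, hj] at hx
  obtain ⟨haR, haQ, haσ⟩ := hne a hsa
  obtain ⟨hbR, hbQ, hbσ⟩ := hne b hsb
  have haP := (Finset.mem_erase.1 ha).1
  have hbP := (Finset.mem_erase.1 hb).1
  -- the third function
  have hk : η * mE R + 1 = η * mE Q := by
    have e := sum_mul_two mD mE hRQ hrest
    rw [Finset.sum_congr rfl (fun i _ => mul_comm _ _)] at hED
    simp only [Int.cast_eq, hED, hR, hQ] at e
    linarith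
  have six : ∀ {R' : Type} [CommRing R'] (w : ι → R'),
      ∑ i, w i = w P + w R + w Q + w (σ Q) + w a + w b +
        ∑ i ∈ (Finset.univ \ {P, R, Q, σ Q, a, b}), w i := by
    intro R' _ w
    rw [← Finset.sum_sdiff (Finset.subset_univ {P, R, Q, σ Q, a, b}),
      Finset.sum_insert (by simp [hPR, hPQ, hPσ, haP.symm, hbP.symm]),
      Finset.sum_insert (by simp [hRQ, hσQR.symm, haR.symm, hbR.symm]),
      Finset.sum_insert (by simp [Ne.symm hσQ, haQ.symm, hbQ.symm]),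
      Finset.sum_insert (by simp [haσ.symm, hbσ.symm]), Finset.sum_pair hab]
    ring
  have eE := six (fun i => mE i ^ 2)
  rw [hEE, hEP, hEσ] at eE
  have hnn : 0 ≤ ∑ i ∈ (Finset.univ \ {P, R, Q, σ Q, a, b}), mE i ^ 2 :=
    Finset.sum_nonneg fun i _ => sq_nonneg _
  have hRk : mE R = η * (η * mE R) := by rw [← mul_assoc, hη2, one_mul]
  have hQk : mE Q = η * (η * mE Q) := by rw [← mul_assoc, hη2, one_mul]
  have sR : mE R ^ 2 = (η * mE R) ^ 2 := by rw [mul_pow, sq η, hη2, one_mul]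
  have sQ : mE Q ^ 2 = (η * mE Q) ^ 2 := by rw [mul_pow, sq η, hη2, one_mul]
  have sa : mE a ^ 2 = (mA a * mE a) ^ 2 := by rw [mul_pow, hsa, one_mul]
  have sb : mE b ^ 2 = (mA b * mE b) ^ 2 := by rw [mul_pow, hsb, one_mul]
  rw [sR, sQ, sa, sb, ← hk] at eE
  rw [← hk] at hQk
  generalize hkdef : η * mE R = k at eE hRk hQk
  obtain ⟨hk01, huv⟩ := coeff_cases hnn hAE' (k := k) (by rw [eE]; ring)
  have hEa : mE a = mA a := by
    calc mE a = mA a ^ 2 * mE a := by rw [hsa, one_mul]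
      _ = mA a * (mA a * mE a) := by ring
      _ = mA a := by rw [huv.1, mul_one]
  have hEb : mE b = mA b := by
    calc mE b = mA b ^ 2 * mE b := by rw [hsb, one_mul]
      _ = mA b * (mA b * mE b) := by ring
      _ = mA b := by rw [huv.2, mul_one]
  rw [huv.1, huv.2] at eE
  rcases hk01 with rfl | rfl
  swap
  · have hz0 := (Finset.sum_eq_zero_iff_of_nonneg fun i _ => sq_nonneg (mE i)).1
      (by linarith : ∑ i ∈ (Finset.univ \ {P, R, Q, σ Q, a, b}), mE i ^ 2 = 0)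
    have et' := six (fun i => mE i * z i)
    rw [hEt, hEP, hEσ, hzσ, hRk, hQk, hEa, hEb, hzz.2, Finset.sum_eq_zero fun i hi => by
      rw [eq_zero_of_pow_eq_zero (hz0 i hi), zero_mul]] at et'
    have : (8 : ℤ) = 3 := by linear_combination et' + hAt' - 4 * hη2
    omega
  · obtain ⟨e, he, hse, hrestE⟩ := exists_one_of_sum_sq
      (Finset.univ \ {P, R, Q, σ Q, a, b}) mE (by linarith)
    have hse2 : mE e ^ 2 = 1 := sq_eq_one_iff.2 hse
    have hQ0 : mE Q = 0 := by rw [hQk]; ring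
    have hR1 : mE R = -η := by rw [hRk]; ring
    have expE : ∀ {R' : Type} [CommRing R'] (w : ι → R'), ∑ i, (mE i : R') * w i =
        -(η : R') * w R + (mA a : R') * w a + (mA b : R') * w b + (mE e : R') * w e := by
      intro R' _ w
      rw [six (fun i => (mE i : R') * w i), hEP, hEσ, hQ0, hR1, hEa, hEb,
        Finset.sum_eq_single_of_mem e he (fun i hi hie => by
          rw [hrestE i hi hie, Int.cast_zero, zero_mul]), Int.cast_zero, Int.cast_neg]
      ring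
    have et' := expE (fun i => z i)
    simp only [Int.cast_eq, hEt, hzz.1] at et'
    have hCt : mE e * z e = 3 := by linear_combination -et' - hAt' + 2 * hη2
    have e1' := expE (fun i => d i)
    simp only [Int.cast_eq, hE1] at e1'
    obtain ⟨heP, heR, heQ, heσ, hea, heb⟩ :
        e ≠ P ∧ e ≠ R ∧ e ≠ Q ∧ e ≠ σ Q ∧ e ≠ a ∧ e ≠ b := by
      simpa using (Finset.mem_sdiff.1 he).2
    refine ⟨⟨a, b, e, R, Q, mA a, mA b, mE e, η, hsa, hsb, hse2, by rw [sq]; exact hη2, ?_, hσR,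
      expA, ?_, fun w => expE w, hAt', hbig, hCt, hzz.1, hzz.2, hA1', ?_⟩⟩
    · simp [hPR, hPQ, hPσ, haP.symm, hbP.symm, heP.symm, hRQ, hσQR.symm, haR.symm, hbR.symm,
        heR.symm, Ne.symm hσQ, haQ.symm, hbQ.symm, heQ.symm, haσ.symm, hbσ.symm, heσ.symm, hab,
        hea.symm, heb.symm]
    · intro w
      rw [sum_mul_two mD w hRQ hrest, hR, hQ, Int.cast_neg]
      ring
    · linarith

namespace Sys

variable {σ : ι → ι} {z d mA mD mE : ι → ℤ} {P : ι} (S : Sys σ z d mA mD mE P)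

/-- The seven constituents. -/
def seven : Finset ι := [P, S.R, S.Q, σ S.Q, S.a, S.b, S.e].toFinset

theorem sum_seven {M : Type*} [AddCommMonoid M] (w : ι → M) :
    ∑ i ∈ S.seven, w i = w P + (w S.R + (w S.Q + (w (σ S.Q) + (w S.a + (w S.b + w S.e))))) := by
  rw [seven, List.sum_toFinset w S.nodup]
  simp

theorem mem_seven {i : ι} :
    i ∈ S.seven ↔ i = P ∨ i = S.R ∨ i = S.Q ∨ i = σ S.Q ∨ i = S.a ∨ i = S.b ∨ i = S.e := by
  simp [seven]

theorem expA' (w : ι → ℤ) : ∑ i, mA i * w i = w P + S.α * w S.a + S.β * w S.b := by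
  have h := S.expA fun i => (w i : ℚ)
  apply Int.cast_injective (α := ℚ)
  simp only [← Int.coe_castRingHom, map_sum, map_mul, map_add, map_sub, map_neg]
  exact h

theorem expD' (w : ι → ℤ) : ∑ i, mD i * w i = S.η * w S.R - S.η * w S.Q := by
  have h := S.expD fun i => (w i : ℚ)
  apply Int.cast_injective (α := ℚ)
  simp only [← Int.coe_castRingHom, map_sum, map_mul, map_add, map_sub, map_neg]
  exact h

theorem expE' (w : ι → ℤ) :
    ∑ i, mE i * w i = -S.η * w S.R + S.α * w S.a + S.β * w S.b + S.γ * w S.e := by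
  have h := S.expE fun i => (w i : ℚ)
  apply Int.cast_injective (α := ℚ)
  simp only [← Int.coe_castRingHom, map_sum, map_mul, map_add, map_sub, map_neg]
  exact h

theorem split_seven (w : ι → ℤ) :
    ∑ i, w i = w P + (w S.R + (w S.Q + (w (σ S.Q) + (w S.a + (w S.b + w S.e))))) +
      ∑ i ∈ S.sevenᶜ, w i := by
  rw [← S.sum_seven, Finset.sum_add_sum_compl]

set_option maxHeartbeats 1000000 in
/-- A function of norm three, orthogonal to all the exceptional functions, of value eight at the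
involution, is orthogonal to the seven constituents. -/
theorem orth_seven (hσ : ∀ i, σ (σ i) = i) (hd : ∀ i, 1 ≤ d i) (hzP : z P = 1) (m n : ι → ℤ)
    (hm : ∑ i, m i ^ 2 = 3) (hm1 : ∑ i, m i * d i = 0) (hmt : ∑ i, m i * z i = 8)
    (hmP : m P = 0) (hmA : ∑ i, m i * mA i = 0) (hmE : ∑ i, m i * mE i = 0)
    (hmD : ∑ i, m i * mD i = 0) (hmD' : ∑ i, m i * mD (σ i) = 0)
    (hn : ∑ i, n i ^ 2 = 4) (hnP : n P = 1) (hnA : ∑ i, n i * mA i = 2)
    (hnE : ∑ i, n i * mE i = 0) (hnD : ∑ i, n i * mD i = 0) (hnσ : ∀ i, n (σ i) = n i)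
    (hnt : ∑ i, n i * z i = 0) (hmn : ∑ i, n i * m i = 0) :
    ∀ i ∈ S.seven, m i = 0 := by
  have hcomm : ∀ f h : ι → ℤ, ∑ i, f i * h i = ∑ i, h i * f i := fun f h =>
    Finset.sum_congr rfl fun i _ => mul_comm _ _
  rw [hcomm, S.expA', hmP] at hmA
  rw [hcomm, S.expE'] at hmE
  rw [hcomm, S.expD'] at hmD
  have hD' : S.η * m S.R - S.η * m (σ S.Q) = 0 := by
    have h := S.expD' fun i => m (σ i)
    rw [S.σR] at h
    rw [← h, ← hmD']
    refine Fintype.sum_equiv ⟨σ, σ, hσ, hσ⟩ _ _ fun i => ?_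
    simp only [Equiv.coe_fn_mk, hσ, mul_comm]
  have hη0 : S.η ≠ 0 := fun e => by simpa [e] using S.hη
  have hQ : m S.Q = m S.R := mul_left_cancel₀ hη0 (by linarith)
  have hQ' : m (σ S.Q) = m S.R := mul_left_cancel₀ hη0 (by linarith)
  have e2 := S.split_seven (fun i => m i ^ 2)
  rw [hm, hmP, hQ, hQ'] at e2
  have hrest : 0 ≤ ∑ i ∈ S.sevenᶜ, m i ^ 2 := Finset.sum_nonneg fun i _ => sq_nonneg _
  have hR : m S.R = 0 := by
    by_contra hne
    have h1 : 1 ≤ m S.R ^ 2 := by have : 0 < m S.R ^ 2 := by positivity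
                                  omega
    have ha := sq_nonneg (m S.a)
    have hb := sq_nonneg (m S.b)
    have he := sq_nonneg (m S.e)
    have za : m S.a = 0 := eq_zero_of_pow_eq_zero (n := 2) (by linarith)
    have zb : m S.b = 0 := eq_zero_of_pow_eq_zero (n := 2) (by linarith)
    have ze : m S.e = 0 := eq_zero_of_pow_eq_zero (n := 2) (by linarith)
    have zr := (Finset.sum_eq_zero_iff_of_nonneg fun i _ => sq_nonneg (m i)).1
      (by linarith : ∑ i ∈ S.sevenᶜ, m i ^ 2 = 0)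
    have e1 := S.split_seven (fun i => m i * d i)
    rw [hm1, hmP, hQ, hQ', za, zb, ze, Finset.sum_eq_zero fun i hi => by
      rw [eq_zero_of_pow_eq_zero (zr i hi), zero_mul]] at e1
    have e3 : m S.R * (d S.R + d S.Q + d (σ S.Q)) = 0 := by linarith
    rcases mul_eq_zero.1 e3 with h | h
    · exact hne h
    · have := hd S.R
      have := hd S.Q
      have := hd (σ S.Q)
      omega
  have he0 : m S.e = 0 := by
    have h : S.γ * m S.e = 0 := by rw [hR] at hmE; linarith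
    rcases mul_eq_zero.1 h with h | h
    · exact absurd S.hγ (by rw [h]; norm_num)
    · exact h
  have hsa : (S.α * m S.a) ^ 2 = m S.a ^ 2 := by rw [mul_pow, S.hα, one_mul]
  have hsb : (S.β * m S.b) ^ 2 = m S.b ^ 2 := by rw [mul_pow, S.hβ, one_mul]
  obtain ⟨s, hs⟩ : ∃ s, s = S.α * m S.a := ⟨_, rfl⟩
  have hsb' : S.β * m S.b = -s := by linarith
  rw [← hs] at hsa
  rw [hsb', neg_sq] at hsb
  by_cases hs0 : s = 0
  · intro i hi
    rw [hs0] at hsa hsb
    have za : m S.a = 0 := eq_zero_of_pow_eq_zero (n := 2) (by rw [← hsa]; norm_num)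
    have zb : m S.b = 0 := eq_zero_of_pow_eq_zero (n := 2) (by rw [← hsb]; norm_num)
    rcases S.mem_seven.1 hi with rfl | rfl | rfl | rfl | rfl | rfl | rfl
    exacts [hmP, hR, hQ.trans hR, hQ'.trans hR, za, zb, he0]
  exfalso
  rw [hR, he0] at e2
  have hs1 : s ^ 2 = 1 := by
    have h1 : s ≤ 1 := by nlinarith
    have h2 : -1 ≤ s := by nlinarith
    have : s = 1 ∨ s = -1 := by omega
    rcases this with e | e <;> rw [e] <;> norm_num
  obtain ⟨X, hX, -, hXrest⟩ := exists_one_of_sum_sq S.sevenᶜ m (by linarith)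
  -- the fourth function
  rw [hcomm, S.expA', hnP] at hnA
  rw [hcomm, S.expD'] at hnD
  rw [hcomm, S.expE'] at hnE
  have hnQ : n S.Q = n S.R := mul_left_cancel₀ hη0 (by linarith)
  have f2 := S.split_seven (fun i => n i ^ 2)
  rw [hn, hnP, hnσ, hnQ] at f2
  have hrest' : 0 ≤ ∑ i ∈ S.sevenᶜ, n i ^ 2 := Finset.sum_nonneg fun i _ => sq_nonneg _
  obtain ⟨p, hp⟩ : ∃ p, p = S.α * n S.a := ⟨_, rfl⟩
  have hq : S.β * n S.b = 1 - p := by linarith
  have hpa : n S.a ^ 2 = p ^ 2 := by rw [hp, mul_pow, S.hα, one_mul]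
  have hpb : n S.b ^ 2 = (1 - p) ^ 2 := by rw [← hq, mul_pow, S.hβ, one_mul]
  rw [hpa, hpb] at f2
  have hpp : 0 ≤ p * (p - 1) := by
    rcases le_or_gt p 0 with h | h
    · exact mul_nonneg_of_nonpos_of_nonpos h (by linarith)
    · exact mul_nonneg h.le (by omega)
  have hnR : n S.R = 0 := by
    have h1 : n S.R ^ 2 ≤ 0 := by nlinarith [sq_nonneg (n S.e)]
    exact eq_zero_of_pow_eq_zero (le_antisymm h1 (sq_nonneg _))
  rw [hnR] at hnE f2
  have hne : S.γ * n S.e = -1 := by linarith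
  have hne2 : n S.e ^ 2 = 1 := by
    calc n S.e ^ 2 = (S.γ * n S.e) ^ 2 := by rw [mul_pow, S.hγ, one_mul]
      _ = 1 := by rw [hne]; norm_num
  rw [hne2] at f2
  have hp01 : p = 0 ∨ p = 1 := by
    have h1 : p ≤ 1 := by nlinarith
    have h2 : 0 ≤ p := by nlinarith
    omega
  obtain ⟨Y, hY, -, hYrest⟩ := exists_one_of_sum_sq S.sevenᶜ n (by
    rcases hp01 with e | e <;> rw [e] at f2 <;> linarith)
  have keyn : ∀ w : ι → ℤ, ∑ i, n i * w i =
      w P + p * (S.α * w S.a) + (1 - p) * (S.β * w S.b) + (-1) * (S.γ * w S.e) + n Y * w Y := by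
    intro w
    rw [S.split_seven (fun i => n i * w i), hnP, hnσ, hnQ, hnR,
      Finset.sum_eq_single_of_mem Y hY fun i hi hiY => by rw [hYrest i hi hiY, zero_mul]]
    linear_combination (w S.a) * (S.α * hp.symm - n S.a * S.hα) +
      (w S.b) * (S.β * hq - n S.b * S.hβ) + (w S.e) * (S.γ * hne - n S.e * S.hγ)
  rw [keyn, hmP, hsb', ← hs, he0] at hmn
  rw [keyn, hzP, S.ze] at hnt
  have hYX : Y = X := by
    by_contra hh
    rw [hXrest Y hY hh] at hmn
    rcases hp01 with e | e <;> rw [e] at hmn <;> omega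
  subst hYX
  have e8 := S.split_seven (fun i => m i * z i)
  rw [hmt, hmP, hQ, hQ', hR, he0,
    Finset.sum_eq_single_of_mem Y hY fun i hi hiY => by rw [hXrest i hi hiY, zero_mul]] at e8
  have ea : m S.a * z S.a = s * (S.α * z S.a) := by
    linear_combination (-(S.α * z S.a)) * hs - m S.a * z S.a * S.hα
  have eb : m S.b * z S.b = -s * (S.β * z S.b) := by
    linear_combination (S.β * z S.b) * hsb' - m S.b * z S.b * S.hβ
  have huv := S.uv
  rw [ea, eb] at e8
  generalize S.α * z S.a = u at hnt e8 huv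
  generalize S.β * z S.b = v at hnt e8 huv
  have hXX : m Y ^ 2 = 1 := by
    have := Finset.sum_eq_single_of_mem (f := fun i => m i ^ 2) Y hY fun i hi hiY => by
      simp [hXrest i hi hiY]
    linarith
  have hnm : n Y = -(s * (2 * p - 1)) * m Y := by
    linear_combination m Y * hmn - n Y * hXX
  rw [hnm] at hnt
  generalize hx : m Y * z Y = x at e8
  have hnt' : 1 + p * u + (1 - p) * v - 3 - s * (2 * p - 1) * x = 0 := by
    linear_combination hnt + s * (2 * p - 1) * hx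
  rcases sq_eq_one_iff.1 hs1 with es | es <;> rcases hp01 with ep | ep <;>
    rw [es] at e8 hnt' <;> rw [ep] at hnt' <;> omega

theorem two_dvd_of_odd_mul_sq {o X : ℤ} (ho : Odd o) (h : 2 ∣ o * X ^ 2) : 2 ∣ X := by
  rw [← even_iff_two_dvd] at h ⊢
  rcases Int.even_mul.1 h with h | h
  · exact absurd h (Int.not_even_iff_odd.2 ho)
  · exact (Int.even_pow.1 h).1

/-- The `2`-part of the order equation. -/
theorem two_part {o c A : ℤ} (ho : Odd o) (hc : Odd c)
    (h : o * (A + 4) ^ 2 = 576 * c * (A * (A + 1))) : ∃ l : ℤ, Odd l ∧ A = 16 * l - 4 := by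
  obtain ⟨X, hX⟩ := two_dvd_of_odd_mul_sq ho ⟨288 * c * (A * (A + 1)), by rw [h]; ring⟩
  have h1 : o * X ^ 2 = 144 * c * (A * (A + 1)) := by
    rw [hX] at h; linarith
  obtain ⟨Y, rfl⟩ := two_dvd_of_odd_mul_sq ho ⟨72 * c * (A * (A + 1)), by rw [h1]; ring⟩
  have h2 : o * Y ^ 2 = 36 * c * (A * (A + 1)) := by linarith
  obtain ⟨m, rfl⟩ := two_dvd_of_odd_mul_sq ho ⟨18 * c * (A * (A + 1)), by rw [h2]; ring⟩
  have hA : A = 8 * m - 4 := by linarith
  subst hA
  have h3 : o * m ^ 2 = 36 * c * ((2 * m - 1) * (8 * m - 3)) := by linarith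
  obtain ⟨l, rfl⟩ := two_dvd_of_odd_mul_sq ho
    ⟨18 * c * ((2 * m - 1) * (8 * m - 3)), by rw [h3]; ring⟩
  have h4 : o * l ^ 2 = 9 * c * ((2 * (2 * l) - 1) * (8 * (2 * l) - 3)) := by linarith
  refine ⟨l, ?_, by ring⟩
  have h5 : Odd (o * l ^ 2) := by
    rw [h4]
    exact ((show Odd (9 : ℤ) from ⟨4, rfl⟩).mul hc).mul
      ((show Odd (2 * (2 * l) - 1) from ⟨2 * l - 1, by ring⟩).mul
        (show Odd (8 * (2 * l) - 3) from ⟨8 * l - 2, by ring⟩))
  exact (Int.odd_pow.1 (Int.odd_mul.1 h5).2).resolve_right (by norm_num)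

set_option maxHeartbeats 1000000 in
/-- The order equations force a small degree. -/
theorem degree_contra (hzσ : ∀ i, z (σ i) = z i) (hd : ∀ i, 1 ≤ d i) (hzP : z P = 1) (hdP : d P = 1)
    (hcol : ∑ i ∈ S.seven, z i ^ 2 ≤ 48) {g c : ℤ} (hg : 0 < g)
    (hg16 : ∃ o : ℤ, Odd o ∧ g = 16 * o) (hc : Odd c)
    (hLA : (g : ℚ) * ∑ i, (mA i : ℚ) * ((z i : ℚ) ^ 2 / d i) = 9216 * c)
    (hLE : (g : ℚ) * ∑ i, (mE i : ℚ) * ((z i : ℚ) ^ 2 / d i) = 4608 * c)
    (ha : 16 ≤ d S.a) (he : 16 ≤ d S.e) : False := by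
  rw [S.expA] at hLA
  rw [S.expE] at hLE
  simp only [hzP, hdP, Int.cast_one, one_pow, div_one] at hLA
  have za : z S.a ^ 2 = (S.α * z S.a) ^ 2 := by rw [mul_pow, S.hα, one_mul]
  have zb : z S.b ^ 2 = (S.β * z S.b) ^ 2 := by rw [mul_pow, S.hβ, one_mul]
  have ze : z S.e ^ 2 = 9 := by
    calc z S.e ^ 2 = (S.γ * z S.e) ^ 2 := by rw [mul_pow, S.hγ, one_mul]
      _ = 9 := by rw [S.ze]; norm_num
  have zR : z S.R ^ 2 = 4 := by rw [S.zR, mul_pow, S.hη]; norm_num
  have zQ : z S.Q ^ 2 = 4 := by rw [S.zQ, mul_pow, S.hη]; norm_num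
  have huv := S.uv
  have hbig := S.big
  rw [S.sum_seven, hzP, hzσ, zR, zQ, za, zb, ze] at hcol
  generalize hu : S.α * z S.a = u at hcol za huv hbig
  generalize hv : S.β * z S.b = v at hcol zb huv hbig
  obtain ⟨rfl, rfl⟩ := value_cases huv hbig (by linarith)
  have za' : (z S.a : ℚ) ^ 2 = 16 := by exact_mod_cast za.trans (by norm_num)
  have zb' : (z S.b : ℚ) ^ 2 = 9 := by exact_mod_cast zb.trans (by norm_num)
  have ze' : (z S.e : ℚ) ^ 2 = 9 := by exact_mod_cast ze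
  have zR' : (z S.R : ℚ) ^ 2 = 4 := by exact_mod_cast zR
  rw [za', zb'] at hLA
  rw [za', zb', ze', zR'] at hLE
  have inv1 : ∀ {s n : ℤ}, s ^ 2 = 1 → ∀ r : ℚ, (s : ℚ) * (r / n) = r / ((s * n : ℤ) : ℚ) := by
    intro s n hs r
    rcases sq_eq_one_iff.1 hs with h | h <;> subst h <;> push_cast <;> ring
  rw [inv1 S.hα, inv1 S.hβ] at hLA
  rw [inv1 S.hα, inv1 S.hβ, inv1 S.hγ, neg_mul, inv1 S.hη] at hLE
  have hBv : S.β * d S.b = -1 - S.α * d S.a := by linarith [S.dab]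
  have nz : ∀ {s : ℤ} (i : ι), s ^ 2 = 1 → s * d i ≠ 0 := fun i hs =>
    mul_ne_zero (by rintro rfl; norm_num at hs) (by have := hd i; omega)
  have n2 := nz S.b S.hβ
  have n4 := nz S.R S.hη
  rw [hBv] at n2 hLA hLE
  rw [S.dRe] at n4 hLE
  have hA16 : 16 ≤ S.α * d S.a ∨ S.α * d S.a ≤ -16 := by
    rcases sq_eq_one_iff.1 S.hα with h | h <;> rw [h] <;> omega
  have hC16 : 16 ≤ S.γ * d S.e ∨ S.γ * d S.e ≤ -16 := by
    rcases sq_eq_one_iff.1 S.hγ with h | h <;> rw [h] <;> omega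
  generalize S.α * d S.a = A at n2 hLA hLE hA16
  generalize S.γ * d S.e = C at n4 hLE hC16
  have q1 : (A : ℚ) ≠ 0 := Int.cast_ne_zero.2 (by omega)
  have q2 : ((-1 - A : ℤ) : ℚ) ≠ 0 := Int.cast_ne_zero.2 n2
  have q3 : (C : ℚ) ≠ 0 := Int.cast_ne_zero.2 (by omega)
  have q4 : ((C - 1 : ℤ) : ℚ) ≠ 0 := Int.cast_ne_zero.2 n4
  have hgq : (g : ℚ) ≠ 0 := Int.cast_ne_zero.2 hg.ne'
  push_cast at q2 q4 hLA hLE
  have h0 : (18 / (C : ℚ) - 8 / ((C : ℚ) - 1)) = 1 - 16 / A - 9 / (-1 - A) := by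
    refine mul_left_cancel₀ hgq ?_
    linear_combination 2 * hLE - hLA
  field_simp at h0
  have hCeq : (10 * (C : ℚ) - 18) * (A * (A + 1)) =
      (A * (A + 1) - 16 * (A + 1) + 9 * A) * (C * (C - 1)) := by linear_combination -h0
  have hCeq' : (10 * C - 18) * (A * (A + 1)) =
      (A * (A + 1) - 16 * (A + 1) + 9 * A) * (C * (C - 1)) := by exact_mod_cast hCeq
  field_simp at hLA
  have hAeq : (g : ℚ) * ((A : ℚ) + 4) ^ 2 = 9216 * c * (A * (A + 1)) := by
    linear_combination -hLA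
  have hAeq' : g * (A + 4) ^ 2 = 9216 * c * (A * (A + 1)) := by exact_mod_cast hAeq
  obtain ⟨o, ho, rfl⟩ := hg16
  obtain ⟨l, hl, rfl⟩ := two_part ho hc (by linarith : o * (A + 4) ^ 2 = 576 * c * (A * (A + 1)))
  obtain ⟨k, rfl⟩ := hl
  have hA44 : 44 ≤ 16 * (2 * k + 1) - 4 ∨ 16 * (2 * k + 1) - 4 ≤ -20 := by omega
  generalize 16 * (2 * k + 1) - 4 = A at hA44 hCeq'
  have hq : 0 < A ^ 2 - 6 * A - 16 := by rcases hA44 with h | h <;> nlinarith
  rcases hC16 with hC | hC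
  · have h16 : 0 < 98 * A ^ 2 - 1582 * A - 3840 := by rcases hA44 with h | h <;> nlinarith
    have hsl : 0 ≤ (C + 16) * (A ^ 2 - 6 * A - 16) - (11 * A ^ 2 + 4 * A - 16) := by
      rcases hA44 with h | h <;> nlinarith
    nlinarith [mul_nonneg (by linarith : (0 : ℤ) ≤ C - 16) hsl]
  · have hp : 0 < 11 * A ^ 2 + 4 * A - 16 := by rcases hA44 with h | h <;> nlinarith
    have hr : 0 < A * (A + 1) := by rcases hA44 with h | h <;> nlinarith
    nlinarith [mul_nonneg (sq_nonneg C) hq.le, mul_nonneg (by linarith : (0 : ℤ) ≤ -C) hp.le]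

end Sys

end CfsgLib.Suborbit3.Octa
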