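import Cfsg.Agent.Lib.Suborbit3.Octa.Frame
import Cfsg.Agent.Lib.GL23.Main

/-!
# Characters of a simple group with a frame
-/

set_option autoImplicit false
set_option linter.style.haveILetI false
set_option linter.unusedSectionVars false

namespace CfsgLib.Suborbit3.Octa

open Cfsg CfsgLib.Characters CfsgLib.GL23
open scoped ComplexConjugate

namespace Frame

variable {G : Type*} [Group G] {t : G} (Φ : Frame t)

include Φ in
theorem center_eq_bot [IsSimpleGroup G] : Subgroup.center G = ⊥ := by
  rcases Subgroup.Normal.eq_bot_or_eq_top (inferInstance : (Subgroup.center G).Normal) with hb | hb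
  · exact hb
  exfalso
  refine not_comm_gl fun x hx y hy => ?_
  obtain ⟨a, rfl⟩ := Φ.pc_surj hx
  obtain ⟨b, rfl⟩ := Φ.pc_surj hy
  rw [← pc_mul, ← pc_mul]
  refine congrArg Φ.pc (Subtype.ext ?_)
  have hb' : (b : G) ∈ Subgroup.center G := by rw [hb]; exact Subgroup.mem_top _
  exact Subgroup.mem_center_iff.1 hb' a

include Φ in
/-- A nonprincipal irreducible character takes a value of maximal modulus only at `1`. -/
theorem norm_ne_degree [Finite G] [IsSimpleGroup G] {x : G} (hx : x ≠ 1)
    (χ : IrrCharacter G) (hne : χ ≠ principalIrr G) :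
    ‖(χ : G → ℂ) x‖ ≠ ‖(χ : G → ℂ) 1‖ := by
  haveI : Fintype G := Fintype.ofFinite G
  obtain ⟨χ', n, ρ, hρ, rfl⟩ := χ
  intro h
  change ‖ρ.character x‖ = ‖ρ.character 1‖ at h
  rw [Representation.char_one, Complex.norm_natCast] at h
  obtain ⟨w, hw⟩ := (norm_char_eq_iff_scalar ρ x).1 h
  rcases (Subgroup.Normal.eq_bot_or_eq_top (H := ρ.ker) inferInstance) with hk | hk
  · refine hx ?_
    rw [← Subgroup.mem_bot, ← Φ.center_eq_bot, Subgroup.mem_center_iff]
    intro y
    refine (MonoidHom.ker_eq_bot_iff ρ).1 hk ?_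
    rw [map_mul, map_mul, hw]
    exact LinearMap.ext fun v => by simp
  · have hc : ρ.character = fun _ => (n : ℂ) := by
      funext g
      have hg : g ∈ ρ.ker := by rw [hk]; exact Subgroup.mem_top _
      rw [Representation.character, MonoidHom.mem_ker.1 hg]
      simp
    have h0 : classInner ρ.character (fun _ : G => (1 : ℂ)) = 0 :=
      classInner_irr_ne ⟨n, ρ, hρ, rfl⟩ isIrrCharacter_one fun hh => hne (Subtype.ext hh)
    rw [hc, classInner] at h0
    simp at h0
    haveI := hρ
    have := CfsgLib.Characters.nontrivial_of_irreducible ρ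
    subst h0
    exact not_subsingleton (Fin 0 → ℂ) inferInstance

/-- A frame with trivial kernel is an isomorphism. -/
theorem nonempty_equiv_of_κ (h : Φ.κ = 1) : Nonempty (Ct t ≃* M) :=
  ⟨MulEquiv.ofBijective Φ.φ ⟨(MonoidHom.ker_eq_bot_iff _).1
    (Subgroup.card_eq_one.1 h), Φ.surj⟩⟩

end Frame

/-- The fourth function. -/
noncomputable def vF : Fin 8 → ℂ := ![0, 0, 0, 0, 0, 0, 4, 4]

theorem vF_supp : ∀ i, i ∉ ({1, 4, 5, 6, 7} : Finset (Fin 8)) → vF i = 0 := by
  intro i hi; fin_cases i <;> simp [vF] at hi ⊢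

theorem isGeneralized_vF : IsGeneralizedCharacter M (cf vF) := by
  classical
  letI : Fintype M := Fintype.ofFinite M
  have h : cf vF = ((2 : ℤ) : ℂ) • ((1 : M → ℂ) - sgn)
      - (indFun (sub pB pB_one pB_mul) (lin (-1) lOne _)
        - indFun (sub pB pB_one pB_mul) (lin (-1) lDet _)) := by
    funext g
    simp only [Pi.sub_apply, Pi.smul_apply, Pi.one_apply, smul_eq_mul, ind_oneB, ind_detB, sgn,
      lDet_cls _ (mem_gl g), cf]
    generalize cls (coords g) = i
    fin_cases i <;> norm_num [vF]
  rw [h]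
  refine isGeneralizedCharacter_sub (isGeneralizedCharacter_intCast_smul
    (isGeneralizedCharacter_sub isGeneralizedCharacter_one isGeneralized_sgn) 2)
    (isGeneralizedCharacter_sub ?_ ?_)
  · exact isGeneralized_ind (by norm_num) pB pB_one pB_mul lOne (by decide +kernel)
      (fun _ _ _ _ => rfl)
  · exact isGeneralized_ind (by norm_num) pB pB_one pB_mul lDet (by decide +kernel) lDet_mul

end CfsgLib.Suborbit3.Octa
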