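import Cfsg.Agent.Lib.Suborbit3.Octa.Theta
import Cfsg.Agent.Lib.Suborbit3.Octa.Simple
import Cfsg.Agent.Lib.Suborbit3.Octa.Comb

/-!
# A simple group with a frame has trivial kernel
-/

set_option autoImplicit false
set_option linter.style.haveILetI false
set_option linter.unusedSectionVars false
set_option linter.unusedSimpArgs false

namespace CfsgLib.Suborbit3.Octa

open Cfsg CfsgLib.Characters CfsgLib.GL23 CfsgLib.BrauerPerm
open scoped ComplexConjugate

namespace Frame

variable {G : Type*} [Group G] {t : G} (Φ : Frame t)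

/-- The indicator of the class of `-1`. -/
noncomputable def vT : Fin 8 → ℂ := ![0, 1, 0, 0, 0, 0, 0, 0]

theorem cls_one_eq : ∀ x ∈ gl, cls x = 1 → x = (2, 0, 0, 2) := by decide +kernel

theorem exists_tC_mul {h : Ct t} (hh : cls (Φ.pc h) = 1) :
    ∃ k : Φ.φ.ker, h = (k : Ct t) * tC t := by
  have hk := Φ.mem_ker_of_pc_eq (Φ.pc_tC.trans (cls_one_eq _ (Φ.pc_mem h) hh).symm)
  refine ⟨⟨_, hk⟩, ?_⟩
  show h = (tC t)⁻¹ * h * tC t
  rw [mul_assoc, ← Φ.comm_tC h, inv_mul_cancel_left]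

theorem th_ker_mul (v : Fin 8 → ℂ) (k : Φ.φ.ker) (q : Ct t) :
    Φ.th v ((k : Ct t) * q) = Φ.th v q := by
  rw [th, th, show Φ.pc ((k : Ct t) * q) = Φ.pc q by
    rw [pc, map_mul, MonoidHom.mem_ker.1 k.2, one_mul]; rfl]

variable [Fintype G]

/-- Bessel's inequality for the translation invariant constituents. -/
theorem sum_sq_le (s : Finset (IrrCharacter G)) (z : IrrCharacter G → ℤ)
    (hz : ∀ χ : IrrCharacter G, (χ : G → ℂ) t = z χ)
    (hinv : ∀ χ ∈ s, ∀ k : Φ.φ.ker,
      (χ : G → ℂ) (((k : Ct t) * tC t : Ct t) : G) = (χ : G → ℂ) t) :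
    ∑ χ ∈ s, z χ ^ 2 ≤ 48 := by
  classical
  letI : Fintype (Ct t) := Fintype.ofFinite _
  have svT : ∀ i, i ∉ ({1, 4, 5, 6, 7} : Finset (Fin 8)) → vT i = 0 := by
    intro i hi; fin_cases i <;> simp [vT] at hi ⊢
  let F0 : G → ℂ := indFun (Ct t) (Φ.th vT)
  have hF0 : classInner F0 F0 = (1 / 48 : ℂ) := by
    rw [Φ.inner_ind_th svT svT]
    simp [Fin.sum_univ_eight, clsSize, vT]
  have hc : ∀ χ ∈ s, classInner F0 (χ : G → ℂ) = (z χ : ℂ) / 48 := by
    intro χ hχ
    rw [CfsgLib.Induction.classInner_indFun _ _ (irr_isClassFunction χ), classInner, Φ.card_Ct]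
    have e : ∀ h : Ct t, Φ.th vT h * conj ((χ : G → ℂ) (h : G)) = (z χ : ℂ) * Φ.th vT h := by
      intro h
      by_cases hh : cls (Φ.pc h) = 1
      · obtain ⟨k, hk⟩ := Φ.exists_tC_mul hh
        rw [hk, hinv χ hχ k, hz, map_intCast, mul_comm]
      · have h0 : Φ.th vT h = 0 := by
          unfold th
          generalize cls (Φ.pc h) = i at hh
          fin_cases i <;> simp_all [vT]
        rw [h0, zero_mul, mul_zero]
    rw [Finset.sum_congr rfl fun h _ => e h, ← Finset.mul_sum, Φ.sum_th]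
    have := Φ.kappa_ne
    simp [Fin.sum_univ_eight, clsSize, vT]
    field_simp
  have hB := classInner_eq_sum_mul (φ := F0) (ψ := F0)
    (CfsgLib.Induction.isClassFunction_indFun (Ct t) _)
  rw [hF0] at hB
  have hB' : ∑ χ : IrrCharacter G, Complex.normSq (classInner F0 (χ : G → ℂ)) = 1 / 48 := by
    apply Complex.ofReal_injective
    push_cast
    rw [hB]
    exact Finset.sum_congr rfl fun χ _ => (Complex.mul_conj _).symm
  have h1 : ∑ χ ∈ s, ((z χ : ℝ) / 48) ^ 2 ≤ 1 / 48 := by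
    rw [← hB']
    refine le_trans (le_of_eq (Finset.sum_congr rfl fun χ hχ => ?_))
      (Finset.sum_le_univ_sum_of_nonneg fun χ => Complex.normSq_nonneg _)
    rw [hc χ hχ, show ((z χ : ℂ) / 48) = (((z χ : ℝ) / 48 : ℝ) : ℂ) by push_cast; rfl,
      Complex.normSq_ofReal, sq]
  have h2 : ∑ χ ∈ s, ((z χ : ℝ)) ^ 2 ≤ 48 := by
    simp only [div_pow, ← Finset.sum_div] at h1
    rw [div_le_iff₀ (by norm_num)] at h1
    linarith
  exact_mod_cast h2

set_option maxHeartbeats 8000000 in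
/-- If the group is simple and has one class of involutions, the kernel is trivial. -/
theorem κ_eq_one [IsSimpleGroup G] (hall : ∀ a : G, a * a = 1 → a ≠ 1 → IsConj t a)
    (h32 : ¬ 32 ∣ Nat.card G) : Φ.κ = 1 := by
  classical
  by_contra hκne
  have hκ : 1 < Φ.κ := by
    have := Φ.κ_pos
    omega
  letI : Fintype M := Fintype.ofFinite M
  letI : Fintype (Ct t) := Fintype.ofFinite _
  letI : Fintype Φ.D := Fintype.ofFinite _
  letI : Fintype Φ.Q := Fintype.ofFinite _
  have ht := Φ.ht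
  have svA : ∀ i, i ∉ ({1, 4, 5, 6, 7} : Finset (Fin 8)) → vA i = 0 := by
    intro i hi; fin_cases i <;> simp [vA] at hi ⊢
  have svD : ∀ i, i ∉ ({1, 4, 5, 6, 7} : Finset (Fin 8)) → vD i = 0 := by
    intro i hi; fin_cases i <;> simp [vD] at hi ⊢
  have svE : ∀ i, i ∉ ({1, 4, 5, 6, 7} : Finset (Fin 8)) → vE i = 0 := by
    intro i hi; fin_cases i <;> simp [vE] at hi ⊢
  let FA : G → ℂ := indFun (Ct t) (Φ.th vA)
  let FD : G → ℂ := indFun (Ct t) (Φ.th vD)
  let FE : G → ℂ := indFun (Ct t) (Φ.th vE)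
  let FF : G → ℂ := indFun (Ct t) (Φ.th vF)
  have gA : IsGeneralizedCharacter G FA :=
    CfsgLib.CharArtin.isGeneralizedCharacter_indFun _ (Φ.isGeneralized_th isGeneralized_A)
  have gD : IsGeneralizedCharacter G FD :=
    CfsgLib.CharArtin.isGeneralizedCharacter_indFun _ (Φ.isGeneralized_th isGeneralized_D)
  have gE : IsGeneralizedCharacter G FE :=
    CfsgLib.CharArtin.isGeneralizedCharacter_indFun _ (Φ.isGeneralized_th isGeneralized_E)
  have gF : IsGeneralizedCharacter G FF :=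
    CfsgLib.CharArtin.isGeneralizedCharacter_indFun _ (Φ.isGeneralized_th isGeneralized_vF)
  choose mA hmA using (isGeneralizedCharacter_iff.1 gA).2
  choose mD hmD using (isGeneralizedCharacter_iff.1 gD).2
  choose mE hmE using (isGeneralizedCharacter_iff.1 gE).2
  choose mF hmF using (isGeneralizedCharacter_iff.1 gF).2
  choose z hz using exists_int_value (G := G) ht
  choose dd hd0 hd using fun χ : IrrCharacter G => irr_exists_degree χ.2
  have ev : ∀ {F : G → ℂ} {m : IrrCharacter G → ℤ}, IsClassFunction G F →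
      (∀ χ : IrrCharacter G, classInner F (χ : G → ℂ) = m χ) →
      ∀ x, F x = ∑ χ, (m χ : ℂ) * (χ : G → ℂ) x := by
    intro F m hF hm x
    conv_lhs => rw [classFunction_eq_sum hF]
    simp [hm]
  have ip : ∀ {F F' : G → ℂ} {m m' : IrrCharacter G → ℤ}, IsClassFunction G F' →
      (∀ χ : IrrCharacter G, classInner F (χ : G → ℂ) = m χ) →
      (∀ χ : IrrCharacter G, classInner F' (χ : G → ℂ) = m' χ) →
      classInner F F' = ((∑ χ, m χ * m' χ : ℤ) : ℂ) := by
    intro F F' m m' hF' hm hm'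
    rw [classInner_eq_sum_mul hF']
    simp [hm, hm']
  have cA := isClassFunction_of_isGeneralizedCharacter gA
  have cD := isClassFunction_of_isGeneralizedCharacter gD
  have cE := isClassFunction_of_isGeneralizedCharacter gE
  have cF := isClassFunction_of_isGeneralizedCharacter gF
  have iAA := (Φ.inner_ind_th svA svA).symm.trans (ip cA hmA hmA)
  have iDD := (Φ.inner_ind_th svD svD).symm.trans (ip cD hmD hmD)
  have iEE := (Φ.inner_ind_th svE svE).symm.trans (ip cE hmE hmE)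
  have iAD := (Φ.inner_ind_th svA svD).symm.trans (ip cD hmA hmD)
  have iAE := (Φ.inner_ind_th svA svE).symm.trans (ip cE hmA hmE)
  have iED := (Φ.inner_ind_th svE svD).symm.trans (ip cD hmE hmD)
  have iFF := (Φ.inner_ind_th vF_supp vF_supp).symm.trans (ip cF hmF hmF)
  have iFA := (Φ.inner_ind_th vF_supp svA).symm.trans (ip cA hmF hmA)
  have iFD := (Φ.inner_ind_th vF_supp svD).symm.trans (ip cD hmF hmD)
  have iFE := (Φ.inner_ind_th vF_supp svE).symm.trans (ip cE hmF hmE)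
  simp [Fin.sum_univ_eight, clsSize, vA, vD, vE, vF, conj_aC, map_ofNat, map_neg, aC_sq]
    at iAA iDD iEE iAD iAE iED iFF iFA iFD iFE
  norm_num at iAA iDD iEE iAD iAE iED iFF iFA iFD iFE
  ring_nf at iFD
  -- the conjugate of the second function
  let vD' : Fin 8 → ℂ := fun i => conj (vD i)
  have svD' : ∀ i, i ∉ ({1, 4, 5, 6, 7} : Finset (Fin 8)) → vD' i = 0 := fun i hi => by
    simp [vD', svD i hi]
  have hD'eq : indFun (Ct t) (Φ.th vD') = fun x => conj (FD x) :=
    funext fun x => CfsgLib.Induction.indFun_conj_apply (Ct t) (Φ.th vD) x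
  have hconjcoef : ∀ {F : G → ℂ} {m : IrrCharacter G → ℤ},
      (∀ χ : IrrCharacter G, classInner F (χ : G → ℂ) = m χ) →
      ∀ χ : IrrCharacter G, classInner (fun x => conj (F x)) (χ : G → ℂ) = m (conjIrr χ) := by
    intro F m hm χ
    have h := congrArg conj (hm (conjIrr χ))
    simp only [classInner, map_mul, map_inv₀, map_natCast, map_sum, map_intCast, conjIrr_apply,
      Complex.conj_conj] at h
    exact h
  have hreal : ∀ {v : Fin 8 → ℂ}, (∀ i, conj (v i) = v i) → ∀ {m : IrrCharacter G → ℤ},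
      (∀ χ : IrrCharacter G, classInner (indFun (Ct t) (Φ.th v)) (χ : G → ℂ) = m χ) →
      ∀ χ, m (conjIrr χ) = m χ := by
    intro v hv m hm χ
    have h1 := hconjcoef hm χ
    have h2 : (fun x => conj (indFun (Ct t) (Φ.th v) x)) = indFun (Ct t) (Φ.th v) := by
      funext x
      rw [← CfsgLib.Induction.indFun_conj_apply]
      congr 1
      exact funext fun h => hv _
    rw [h2, hm] at h1
    exact_mod_cast h1.symm
  have hAσ := hreal (v := vA) (by intro i; fin_cases i <;> simp [vA, map_ofNat]) hmA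
  have hEσ := hreal (v := vE) (by intro i; fin_cases i <;> simp [vE, map_ofNat]) hmE
  have hFσ := hreal (v := vF) (by intro i; fin_cases i <;> simp [vF, map_ofNat]) hmF
  have cD' : IsClassFunction G (indFun (Ct t) (Φ.th vD')) :=
    CfsgLib.Induction.isClassFunction_indFun (Ct t) _
  have hmD' : ∀ χ : IrrCharacter G,
      classInner (indFun (Ct t) (Φ.th vD')) (χ : G → ℂ) = mD (conjIrr χ) := fun χ => by
    rw [hD'eq]; exact hconjcoef hmD χ
  have iDD' := (Φ.inner_ind_th svD svD').symm.trans (ip cD' hmD hmD')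
  simp [Fin.sum_univ_eight, clsSize, vD, vD', conj_aC, map_ofNat, map_neg, aC_sq] at iDD'
  norm_num at iDD'
  -- the principal character
  have oA := (hmA (principalIrr G)).symm.trans (Φ.inner_ind_one vA)
  have oD := (hmD (principalIrr G)).symm.trans (Φ.inner_ind_one vD)
  have oE := (hmE (principalIrr G)).symm.trans (Φ.inner_ind_one vE)
  have oF := (hmF (principalIrr G)).symm.trans (Φ.inner_ind_one vF)
  simp [Fin.sum_univ_eight, clsSize, vA, vD, vE, vF] at oA oD oE oF
  norm_num at oA oD oE oF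
  ring_nf at oA oD oE oF
  -- degrees and values at the involution
  have deg : ∀ {F : G → ℂ} {m : IrrCharacter G → ℤ}, IsClassFunction G F →
      (∀ χ : IrrCharacter G, classInner F (χ : G → ℂ) = m χ) → F 1 = 0 →
      ∑ χ, m χ * (dd χ : ℤ) = 0 := by
    intro F m hF hm h1
    rw [ev hF hm] at h1
    simp only [hd] at h1
    exact_mod_cast h1
  have val : ∀ {F : G → ℂ} {m : IrrCharacter G → ℤ} {r : ℤ}, IsClassFunction G F →
      (∀ χ : IrrCharacter G, classInner F (χ : G → ℂ) = m χ) → F t = r →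
      ∑ χ, m χ * z χ = r := by
    intro F m r hF hm h1
    rw [ev hF hm] at h1
    simp only [hz] at h1
    exact_mod_cast h1
  have valI : ∀ {v : Fin 8 → ℂ}, (∀ i, i ∉ ({1, 4, 5, 6, 7} : Finset (Fin 8)) → v i = 0) →
      indFun (Ct t) (Φ.th v) t = v 1 := fun {v} hv => by
    rw [Φ.ind_apply_t (Φ.isClassFunction_th v) (Φ.th_supp hv), Φ.th_tC]
  have degI : ∀ {v : Fin 8 → ℂ}, (∀ i, i ∉ ({1, 4, 5, 6, 7} : Finset (Fin 8)) → v i = 0) →
      indFun (Ct t) (Φ.th v) 1 = 0 := fun {v} hv => Φ.ind_apply_one (Φ.th_supp hv)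
  have hP1 : (dd (principalIrr G) : ℤ) = 1 := by
    have h := hd (principalIrr G)
    rw [principalIrr_apply] at h
    exact_mod_cast h.symm
  have hPt : z (principalIrr G) = 1 := by
    have h := hz (principalIrr G)
    rw [principalIrr_apply] at h
    exact_mod_cast h.symm
  have hσP : conjIrr (principalIrr G) = principalIrr G :=
    Subtype.ext (funext fun g => by simp)
  have hσσ : ∀ χ : IrrCharacter G, conjIrr (conjIrr χ) = χ :=
    fun χ => Subtype.ext (funext fun g => by simp)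
  have hzσ : ∀ χ, z (conjIrr χ) = z χ := by
    intro χ
    have h := hz (conjIrr χ)
    rw [conjIrr_apply, hz χ, map_intCast] at h
    exact_mod_cast h.symm
  have hdd : ∀ χ : IrrCharacter G, (1 : ℤ) ≤ (dd χ : ℤ) := fun χ => by have := hd0 χ; omega
  -- the structure constants
  have hwN : ∀ x : Ct t, inS (Φ.pc x) →
      ((Finset.univ.filter fun a : G => IsConj t a ∧ IsConj t (a * x)).card : ℂ) =
        (fun i => (Φ.κ : ℂ) * (invTbl i : ℂ)) (cls (Φ.pc x)) :=
    fun x hx => by rw [Φ.count_fused hall x hx, Nat.cast_mul]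
  have main : ∀ {v : Fin 8 → ℂ}, (∀ i, i ∉ ({1, 4, 5, 6, 7} : Finset (Fin 8)) → v i = 0) →
      ∀ {m : IrrCharacter G → ℤ}, IsClassFunction G (indFun (Ct t) (Φ.th v)) →
      (∀ χ : IrrCharacter G, classInner (indFun (Ct t) (Φ.th v)) (χ : G → ℂ) = m χ) →
      ∀ r : ℤ, ∑ i, (clsSize i : ℂ) * (v i * (invTbl i : ℂ)) = r →
      ((Nat.card G : ℤ) : ℚ) * ∑ χ, (m χ : ℚ) * ((z χ : ℚ) ^ 2 / ((dd χ : ℤ) : ℚ)) =
        48 * r * (Φ.κ : ℚ) ^ 3 := by
    intro v hv m hF hm r hr
    have h1 := Φ.sum_involution_products hv (fun i => (Φ.κ : ℂ) * (invTbl i : ℂ)) hwN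
    simp only [ev hF hm] at h1
    rw [Finset.sum_congr rfl (fun a _ => Finset.sum_comm), Finset.sum_comm] at h1
    simp only [← Finset.mul_sum, sum_class_product, hz, hd] at h1
    have hr' : ∑ i, (clsSize i : ℂ) * (v i * ((Φ.κ : ℂ) * (invTbl i : ℂ))) = (Φ.κ : ℂ) * r := by
      rw [← hr, Finset.mul_sum]
      exact Finset.sum_congr rfl fun i _ => by ring
    rw [hr'] at h1
    have hκc : (Φ.κ : ℂ) ≠ 0 := Φ.kappa_ne
    have hk : (Nat.card {x : G // IsConj t x} : ℂ) = (Nat.card G : ℂ) / (48 * Φ.κ) := by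
      rw [← card_isConj_mul_card_centralizer t, Φ.card_Ct]
      push_cast
      field_simp
    rw [hk] at h1
    have hgne : (Nat.card G : ℂ) ≠ 0 := Nat.cast_ne_zero.2 Nat.card_pos.ne'
    have h2 : (Nat.card G : ℂ) * ∑ χ, (m χ : ℂ) * ((z χ : ℂ) ^ 2 / (dd χ : ℂ)) =
        48 * r * (Φ.κ : ℂ) ^ 3 := by
      refine mul_left_cancel₀ hgne ?_
      have h3 : ∀ χ, (m χ : ℂ) * (((Nat.card G : ℂ) / (48 * Φ.κ)) ^ 2 *
          ((z χ : ℂ) ^ 2 / (dd χ : ℂ))) =
          ((Nat.card G : ℂ) / (48 * Φ.κ)) ^ 2 * ((m χ : ℂ) * ((z χ : ℂ) ^ 2 / (dd χ : ℂ))) :=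
        fun χ => by ring
      rw [Finset.sum_congr rfl (fun χ _ => h3 χ), ← Finset.mul_sum] at h1
      generalize ∑ χ, (m χ : ℂ) * ((z χ : ℂ) ^ 2 / (dd χ : ℂ)) = S at h1 ⊢
      field_simp at h1
      linear_combination (Nat.card G : ℂ) * h1
    apply Rat.cast_injective (α := ℂ)
    push_cast
    exact h2
  have LA : ((Nat.card G : ℤ) : ℚ) * ∑ χ, (mA χ : ℚ) * ((z χ : ℚ) ^ 2 / ((dd χ : ℤ) : ℚ)) =
      9216 * (((Φ.κ : ℤ) ^ 3 : ℤ) : ℚ) := by
    rw [main svA cA hmA 192 (by simp [Fin.sum_univ_eight, clsSize, vA, invTbl]; norm_num)]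
    push_cast; ring
  have LD : ((Nat.card G : ℤ) : ℚ) * ∑ χ, (mD χ : ℚ) * ((z χ : ℚ) ^ 2 / ((dd χ : ℤ) : ℚ)) = 0 := by
    rw [main svD cD hmD 0 (by simp [Fin.sum_univ_eight, clsSize, vD, invTbl]; norm_num)]
    push_cast; ring
  have LE : ((Nat.card G : ℤ) : ℚ) * ∑ χ, (mE χ : ℚ) * ((z χ : ℚ) ^ 2 / ((dd χ : ℤ) : ℚ)) =
      4608 * (((Φ.κ : ℤ) ^ 3 : ℤ) : ℚ) := by
    rw [main svE cE hmE 96 (by simp [Fin.sum_univ_eight, clsSize, vE, invTbl]; norm_num)]
    push_cast; ring
  obtain ⟨S⟩ := exists_sys conjIrr hσσ z (fun χ => (dd χ : ℤ)) mA mD mE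
    (principalIrr G) hdd hzσ hAσ hEσ
    (by simp only [sq]; exact_mod_cast iAA.symm) (by simp only [sq]; exact_mod_cast iDD.symm)
    (by simp only [sq]; exact_mod_cast iEE.symm) (by exact_mod_cast iAD.symm)
    (by exact_mod_cast iAE.symm) (by exact_mod_cast iED.symm) (by exact_mod_cast iDD'.symm)
    (by exact_mod_cast oA) (by exact_mod_cast oD) (by exact_mod_cast oE) hPt hP1 hσP
    (deg cA hmA (degI svA)) (deg cD hmD (degI svD)) (deg cE hmE (degI svE))
    (val cA hmA ((valI svA).trans (by simp [vA])))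
    (val cD hmD ((valI svD).trans (by simp [vD])))
    (val cE hmE ((valI svE).trans (by simp [vE])))
    (Nat.card G : ℤ) (by exact_mod_cast Nat.card_pos) LD
  -- the twisted functions are orthogonal to the seven constituents
  have horth : ∀ χ ∈ S.seven, ∀ (l : Φ.A →* ℂˣ) (k : Φ.φ.ker), l (Φ.kA k) ≠ 1 →
      ∀ s : ℂ, s = 2 ∨ s = -2 → classInner (Φ.F l s) (χ : G → ℂ) = 0 := by
    intro χ hχ l k hk s hs
    choose m hm using (isGeneralizedCharacter_iff.1 (Φ.isGeneralized_F l hs)).2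
    have cT := isClassFunction_of_isGeneralizedCharacter (Φ.isGeneralized_F l hs)
    have nT := (Φ.norm_F l k hk hs).symm.trans (ip cT hm hm)
    have pT := (hm (principalIrr G)).symm.trans (Φ.inner_F_one l k hk s)
    have iTA := (Φ.inner_F_ind l k hk s vA svA).symm.trans (ip cA hm hmA)
    have iTE := (Φ.inner_F_ind l k hk s vE svE).symm.trans (ip cE hm hmE)
    have iTD := (Φ.inner_F_ind l k hk s vD svD).symm.trans (ip cD hm hmD)
    have iTD' := (Φ.inner_F_ind l k hk s vD' svD').symm.trans (ip cD' hm hmD')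
    have iTF := (Φ.inner_F_ind l k hk s vF vF_supp).symm.trans (ip cF hm hmF)
    have h0 := S.orth_seven hσσ hdd hPt m mF
      (by simp only [sq]; exact_mod_cast nT.symm) (deg cT hm (Φ.F_one l s))
      (val cT hm ((Φ.F_t l s).trans (by norm_num))) (by exact_mod_cast pT)
      (by exact_mod_cast iTA.symm) (by exact_mod_cast iTE.symm) (by exact_mod_cast iTD.symm)
      (by exact_mod_cast iTD'.symm)
      (by simp only [sq]; exact_mod_cast iFF.symm) (by exact_mod_cast oF)
      (by exact_mod_cast iFA.symm) (by exact_mod_cast iFE.symm) (by exact_mod_cast iFD.symm) hFσ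
      (val cF hmF ((valI vF_supp).trans (by simp [vF])))
      (by
        rw [Finset.sum_congr rfl fun i _ => mul_comm (mF i) (m i)]
        exact_mod_cast iTF.symm) χ hχ
    rw [hm, h0, Int.cast_zero]
  -- translation invariance
  have hinv : ∀ χ ∈ S.seven, ∀ k : Φ.φ.ker,
      (χ : G → ℂ) (((k : Ct t) * tC t : Ct t) : G) = (χ : G → ℂ) t ∧
      ∑ q : Φ.Q, (if cls (Φ.pc (q : Ct t)) = 5 then
          conj ((χ : G → ℂ) (((k : Ct t) * q : Ct t) : G)) else 0) =
        ∑ q : Φ.Q, (if cls (Φ.pc (q : Ct t)) = 5 then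
          conj ((χ : G → ℂ) ((q : Ct t) : G)) else 0) := by
    intro χ hχ k
    have hs : ∀ s : ℂ, s = 2 ∨ s = -2 →
        4 * conj ((χ : G → ℂ) (((k : Ct t) * tC t : Ct t) : G)) + s *
          ∑ q : Φ.Q, (if cls (Φ.pc (q : Ct t)) = 5 then
            conj ((χ : G → ℂ) (((k : Ct t) * q : Ct t) : G)) else 0) =
        4 * conj ((χ : G → ℂ) t) + s *
          ∑ q : Φ.Q, (if cls (Φ.pc (q : Ct t)) = 5 then
            conj ((χ : G → ℂ) ((q : Ct t) : G)) else 0) := by
      intro s hs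
      have h := Φ.shift_invariant (g := fun h => Φ.th (vPM s) h * conj ((χ : G → ℂ) (h : G))) k
        fun l hl => by
          have h' := horth χ hχ l k hl s hs
          rw [Φ.inner_F l s (irr_isClassFunction χ)] at h'
          exact (mul_eq_zero.1 h').resolve_left
            (inv_ne_zero (Nat.cast_ne_zero.2 Nat.card_pos.ne'))
      rw [Finset.sum_congr rfl fun q _ => by rw [Φ.th_ker_mul (vPM s) k (q : Ct t)],
        Φ.sum_Q_vPM s fun h => conj ((χ : G → ℂ) (((k : Ct t) * h : Ct t) : G)),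
        Φ.sum_Q_vPM s fun h => conj ((χ : G → ℂ) (h : G))] at h
      exact h
    have h1 := hs 2 (Or.inl rfl)
    have h2 := hs (-2) (Or.inr rfl)
    refine ⟨(starRingEnd ℂ).injective ?_, ?_⟩
    · linear_combination (h1 + h2) / 8
    · linear_combination (h1 - h2) / 4
  have hcol := Φ.sum_sq_le S.seven z hz fun χ hχ k => (hinv χ hχ k).1
  have hdeg : ∀ χ ∈ S.seven, χ ≠ principalIrr G → (16 : ℤ) ≤ dd χ := by
    intro χ hχ hne
    have := Φ.sixteen_le_degree hκ (φ := fun g => conj ((χ : G → ℂ) g)) (n := dd χ)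
      (isCharacter_conj (irr_isCharacter χ)) (by rw [hd, map_natCast])
      (fun x hx e => Φ.norm_ne_degree hx χ hne (by rw [(starRingEnd ℂ).injective e]))
      (fun k => by rw [(hinv χ hχ k).1]) (fun k => (hinv χ hχ k).2)
    exact_mod_cast this
  have hnd := S.nodup
  simp only [List.nodup_cons, List.mem_cons, List.not_mem_nil, not_or, or_false] at hnd
  refine S.degree_contra hzσ hdd hPt hP1 hcol (g := (Nat.card G : ℤ)) (c := (Φ.κ : ℤ) ^ 3)
    (by exact_mod_cast Nat.card_pos) ?_ ?_ LA LE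
    (hdeg _ (S.mem_seven.2 (by tauto)) (Ne.symm hnd.1.2.2.2.1))
    (hdeg _ (S.mem_seven.2 (by tauto)) (Ne.symm hnd.1.2.2.2.2.2))
  · obtain ⟨q, hq⟩ : 16 ∣ Nat.card G :=
      Nat.dvd_trans (Dvd.dvd.mul_right (by norm_num : 16 ∣ 48) Φ.κ)
        (Φ.card_Ct ▸ Subgroup.card_subgroup_dvd_card (Ct t))
    have hodd : q % 2 = 1 := by
      by_contra hq2
      exact h32 ⟨q / 2, by omega⟩
    exact ⟨(q : ℤ), ⟨(q / 2 : ℕ), by omega⟩, by exact_mod_cast hq⟩
  · exact Odd.pow (by exact_mod_cast (show Odd Φ.κ from Φ.odd))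

end Frame

end CfsgLib.Suborbit3.Octa
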