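import Cfsg.Agent.Lib.Suborbit3.Octa.Sub
import Cfsg.Agent.Lib.Characters.Generalized

/-!
# Translation invariant characters have large degree
-/

set_option autoImplicit false
set_option linter.style.haveILetI false
set_option linter.unusedSectionVars false

namespace CfsgLib.Suborbit3.Octa

open Cfsg CfsgLib.Characters CfsgLib.GL23 CfsgLib.PermSmall
open scoped ComplexConjugate

/-- Values of the two functions on the elements of determinant one. -/
noncomputable def vPM (s : ℂ) : Fin 8 → ℂ := ![0, 4, 0, 0, -2, s, 0, 0]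

theorem pQ_cls : ∀ x ∈ gl, pQ x →
    (cls x = 0 ∧ x = (1, 0, 0, 1)) ∨ (cls x = 1 ∧ x = (2, 0, 0, 2)) ∨ cls x = 5 := by
  decide +kernel

namespace Frame

variable {G : Type*} [Group G] {t : G} (Φ : Frame t)

theorem cls_of_mem_Q {q : Ct t} (hq : q ∈ Φ.Q) :
    (cls (Φ.pc q) = 0 ∧ q = 1) ∨ (cls (Φ.pc q) = 1 ∧ q = tC t) ∨ cls (Φ.pc q) = 5 := by
  rcases pQ_cls _ (Φ.pc_mem q) hq.1 with ⟨h, e⟩ | ⟨h, e⟩ | h
  · refine Or.inl ⟨h, Φ.lift_unique hq.1.1 hq.2 (one_pow 4) ?_⟩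
    rw [e, pc_one]
  · refine Or.inr (Or.inl ⟨h, Φ.lift_unique hq.1.1 hq.2 Φ.tC_mem_Q.2 ?_⟩)
    rw [e, pc_tC]
  · exact Or.inr (Or.inr h)

variable [Fintype Φ.Q]

theorem sum_Q_split (f : Ct t → ℂ) :
    ∑ q : Φ.Q, f q = f 1 + f (tC t) +
      ∑ q : Φ.Q, (if cls (Φ.pc (q : Ct t)) = 5 then f q else 0) := by
  classical
  have hpt : ∀ q : Φ.Q, f q = (if (q : Ct t) = 1 then f q else 0) +
      (if (q : Ct t) = tC t then f q else 0) + (if cls (Φ.pc (q : Ct t)) = 5 then f q else 0) := by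
    intro q
    have ht1 : tC t ≠ 1 := fun e => t_ne_one Φ.ht (congrArg Subtype.val e)
    have h0 : cls (1, 0, 0, 1) = 0 ∧ cls (2, 0, 0, 2) = 1 := by decide +kernel
    rcases Φ.cls_of_mem_Q q.2 with ⟨h, e⟩ | ⟨h, e⟩ | h
    · simp [e, pc_one, h0.1, Ne.symm ht1]
    · simp [e, pc_tC, h0.2, ht1]
    · have n1 : (q : Ct t) ≠ 1 := fun e => by rw [e, pc_one, h0.1] at h; exact absurd h (by decide)
      have n2 : (q : Ct t) ≠ tC t := fun e => by
        rw [e, pc_tC, h0.2] at h; exact absurd h (by decide)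
      simp [n1, n2, h]
  rw [Finset.sum_congr rfl fun q _ => hpt q, Finset.sum_add_distrib, Finset.sum_add_distrib]
  congr 1
  congr 1
  · exact (Finset.sum_eq_single_of_mem (1 : Φ.Q) (Finset.mem_univ _)
      fun q _ hq => if_neg fun e => hq (Subtype.ext e)).trans (if_pos rfl)
  · exact (Finset.sum_eq_single_of_mem (⟨tC t, Φ.tC_mem_Q⟩ : Φ.Q) (Finset.mem_univ _)
      fun q _ hq => if_neg fun e => hq (Subtype.ext e)).trans (if_pos rfl)

theorem sum_Q_vPM (s : ℂ) (f : Ct t → ℂ) :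
    ∑ q : Φ.Q, Φ.th (vPM s) q * f q =
      4 * f (tC t) + s * ∑ q : Φ.Q, (if cls (Φ.pc (q : Ct t)) = 5 then f q else 0) := by
  rw [Φ.sum_Q_split fun h => Φ.th (vPM s) h * f h, th_tC, Finset.mul_sum]
  have e0 : Φ.th (vPM s) 1 = 0 := by
    rw [th, pc_one, show cls (1, 0, 0, 1) = 0 by decide +kernel]; rfl
  rw [e0, zero_mul, zero_add]
  congr 1
  refine Finset.sum_congr rfl fun q _ => ?_
  split_ifs with h
  · rw [th, h]; rfl
  · rw [mul_zero]

theorem card_Q : Nat.card Φ.Q = 8 := by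
  rw [← card_filter_pQ.1, ← Nat.card_eq_finsetCard]
  refine Nat.card_eq_of_bijective
    (fun q => ⟨Φ.pc (q : Ct t), Finset.mem_filter.2 ⟨Φ.pc_mem _, q.2.1⟩⟩) ⟨?_, ?_⟩
  · intro q q' e
    exact Subtype.ext (Φ.lift_unique q.2.1.1 q.2.2 q'.2.2 (congrArg Subtype.val e))
  · rintro ⟨x, hx⟩
    obtain ⟨hgl, hp⟩ := Finset.mem_filter.1 hx
    obtain ⟨h, rfl⟩ := Φ.pc_surj hgl
    obtain ⟨k, hk, q, hq, e⟩ := Φ.exists_lift hp
    refine ⟨⟨q, hq⟩, Subtype.ext ?_⟩
    show Φ.pc q = Φ.pc h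
    rw [e, Φ.comm_ker (h := q) (hq.1.1) hk |>.symm, Φ.pc_mul_ker hk]

instance commutative_ker : IsMulCommutative Φ.φ.ker :=
  ⟨⟨fun a b => Subtype.ext (Φ.comm_ker (Φ.det_of_mem_ker a.2) b.2)⟩⟩

theorem ne_inv_self {a : Φ.φ.ker} {l : Φ.φ.ker →* ℂˣ} (h : l a ≠ 1) : l a ≠ (l a)⁻¹ := by
  intro e
  apply h
  have h2 : l a * l a = 1 := eq_inv_iff_mul_eq_one.1 e
  have hk : l a ^ Φ.κ = 1 := by
    rw [← map_pow, show a ^ Φ.κ = 1 from Subtype.ext (Φ.pow_κ a.2), map_one]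
  obtain ⟨j, hj⟩ := (show Odd Φ.κ from Φ.odd)
  rwa [hj, pow_succ, pow_mul, pow_two, h2, one_pow, one_mul] at hk

/-- A faithful character which is translation invariant on the involution and on the elements of
order four has degree at least sixteen. -/
theorem sixteen_le_degree [Finite G] (hκ : 1 < Φ.κ) {φ : G → ℂ} (hφ : IsCharacter G φ) {n : ℕ}
    (hn : φ 1 = n) (hfaith : ∀ x : G, x ≠ 1 → φ x ≠ φ 1)
    (h1 : ∀ k : Φ.φ.ker, φ ((k : Ct t) * tC t : Ct t) = φ t)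
    (h5 : ∀ k : Φ.φ.ker,
      ∑ q : Φ.Q, (if cls (Φ.pc (q : Ct t)) = 5 then φ ((k : Ct t) * q : Ct t) else 0) =
      ∑ q : Φ.Q, (if cls (Φ.pc (q : Ct t)) = 5 then φ ((q : Ct t) : G) else 0)) : 16 ≤ n := by
  classical
  letI : Fintype Φ.φ.ker := Fintype.ofFinite _
  letI : Fintype G := Fintype.ofFinite G
  let ι : Φ.φ.ker →* G := (Ct t).subtype.comp Φ.φ.ker.subtype
  let ψ : Φ.φ.ker → ℂ := fun k => φ (ι k)
  have hψ : IsCharacter Φ.φ.ker ψ := CfsgLib.CharGalois.isCharacter_comp hφ ι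
  let c0 : ℂ := φ t + ∑ q : Φ.Q, (if cls (Φ.pc (q : Ct t)) = 5 then φ ((q : Ct t) : G) else 0)
  have hsum : ∀ k : Φ.φ.ker, ∑ q : Φ.Q, φ ((k : Ct t) * q : Ct t) = ψ k + c0 := by
    intro k
    rw [Φ.sum_Q_split fun h => φ (((k : Ct t) * h : Ct t) : G), h5, h1, mul_one, add_assoc]
    rfl
  let μ : Φ.φ.ker × Φ.Q →* G := (Ct t).subtype.comp
    { toFun := fun p => (p.1 : Ct t) * (p.2 : Ct t)
      map_one' := mul_one 1
      map_mul' := fun p p' => by
        show (p.1 : Ct t) * p'.1 * ((p.2 : Ct t) * p'.2) = p.1 * p.2 * (p'.1 * p'.2)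
        rw [mul_assoc, ← mul_assoc (p'.1 : Ct t),
          ← Φ.comm_ker (Φ.Q_le_D p.2.2) p'.1.2, mul_assoc, ← mul_assoc, mul_assoc] }
  have hκc : (Φ.κ : ℂ) ≠ 0 := Φ.kappa_ne
  have hd : ∀ l : Φ.φ.ker →* ℂˣ, ∃ d : ℕ, classInner ψ (FeitDual.fn l) = d ∧ (l ≠ 1 → 8 ∣ d) := by
    intro l
    obtain ⟨d, hd⟩ := classInner_char_nat hψ (FeitDual.isCharacter_fn l)
    refine ⟨d, hd, fun hl => ?_⟩
    obtain ⟨m, hm⟩ := classInner_char_nat (CfsgLib.CharGalois.isCharacter_comp hφ μ)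
      (CfsgLib.CharGalois.isCharacter_comp (FeitDual.isCharacter_fn l)
        (MonoidHom.fst Φ.φ.ker Φ.Q))
    refine ⟨m, ?_⟩
    have e : (d : ℂ) = 8 * m := by
      rw [← hd, ← hm, classInner, classInner, Nat.card_prod, Φ.card_Q, Fintype.sum_prod_type]
      simp only [MonoidHom.coe_fst]
      have e1 : ∀ k : Φ.φ.ker, ∑ q : Φ.Q, φ (μ (k, q)) * conj (FeitDual.fn l k) =
          ψ k * conj (FeitDual.fn l k) + c0 * conj (FeitDual.fn l k) := by
        intro k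
        rw [← Finset.sum_mul, ← add_mul]
        congr 1
        exact hsum k
      rw [Finset.sum_congr rfl fun k _ => e1 k, Finset.sum_add_distrib, ← Finset.mul_sum,
        ← map_sum, FeitDual.sum_apply, if_neg hl, map_zero, mul_zero, add_zero]
      push_cast
      field_simp
    exact_mod_cast e
  choose d hd hd8 using hd
  have htot : ∀ a : Φ.φ.ker, ψ a = ∑ l : Φ.φ.ker →* ℂˣ, (d l : ℂ) * (l a : ℂ) := by
    intro a
    have h := FeitDual.sum_inner (fun b => ψ (a * b))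
    simp only [mul_one] at h
    rw [← h]
    refine Finset.sum_congr rfl fun l => fun _ => ?_
    rw [← hd, classInner, classInner, mul_assoc, Finset.sum_mul]
    congr 1
    rw [← Equiv.sum_comp (Equiv.mulLeft a) (fun b => ψ b * conj (FeitDual.fn l b) * (l a : ℂ))]
    refine Finset.sum_congr rfl fun b _ => ?_
    simp only [FeitDual.fn, Equiv.coe_mulLeft, map_mul, Units.val_mul]
    rw [FeitDual.conj_apply l a, map_inv, Units.val_inv_eq_inv_val]
    field_simp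
  have hn' : n = ∑ l : Φ.φ.ker →* ℂˣ, d l := by
    have h := htot 1
    have e : ψ 1 = n := by
      show φ (ι 1) = n
      rw [map_one, hn]
    rw [e] at h
    simp only [map_one, Units.val_one, mul_one] at h
    exact_mod_cast h
  obtain ⟨l, hl, hdl⟩ : ∃ l : Φ.φ.ker →* ℂˣ, l ≠ 1 ∧ d l ≠ 0 := by
    by_contra! hz
    haveI : Nontrivial Φ.φ.ker := Finite.one_lt_card_iff_nontrivial.1 hκ
    obtain ⟨a, ha⟩ := exists_ne (1 : Φ.φ.ker)
    refine hfaith (ι a) (fun e => ha (Subtype.ext (Subtype.ext e))) ?_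
    show ψ a = φ 1
    rw [htot a, hn, hn']
    push_cast
    refine Finset.sum_congr rfl fun l _ => ?_
    by_cases hl : l = 1
    · subst hl; simp
    · rw [hz l hl]; simp
  obtain ⟨w, hw⟩ := Φ.pc_surj (x := (1, 0, 0, 2)) (by decide +kernel)
  have hinvψ : ∀ a : Φ.φ.ker, ψ a⁻¹ = ψ a := by
    intro a
    have h := Φ.invert w (by show tdet (Φ.pc w) ≠ 1; rw [hw]; decide +kernel) _ a.2
    show φ (((a⁻¹ : Φ.φ.ker) : Ct t) : G) = φ ((a : Ct t) : G)
    rw [Subgroup.coe_inv, ← h, Subgroup.coe_mul, Subgroup.coe_mul, Subgroup.coe_inv]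
    exact isClassFunction_of_isCharacter hφ _ _
  have hl' : l⁻¹ ≠ l := by
    obtain ⟨a, ha⟩ : ∃ a, l a ≠ 1 := by
      by_contra! h
      exact hl (MonoidHom.ext h)
    exact fun e => Φ.ne_inv_self ha (DFunLike.congr_fun e a).symm
  have hdl' : d l⁻¹ = d l := by
    have e : classInner ψ (FeitDual.fn l⁻¹) = classInner ψ (FeitDual.fn l) := by
      rw [classInner, classInner, ← Equiv.sum_comp (Equiv.inv Φ.φ.ker)
        (fun b => ψ b * conj (FeitDual.fn l⁻¹ b))]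
      congr 1
      refine Finset.sum_congr rfl fun b _ => ?_
      simp [FeitDual.fn, hinvψ]
    rw [hd, hd] at e
    exact_mod_cast e
  have h8 := hd8 l hl
  have h16 : d l⁻¹ + d l ≤ n := by
    rw [hn', ← Finset.sum_pair hl']
    exact Finset.sum_le_sum_of_subset (Finset.subset_univ _)
  omega

end Frame

end CfsgLib.Suborbit3.Octa
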