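import Cfsg.Agent.Lib.GL23.Transfer

/-!
# Involution centralizers mapping onto `GL(2, 3)` with odd kernel
-/

set_option autoImplicit false
set_option linter.style.haveILetI false
set_option linter.unusedSectionVars false

namespace CfsgLib.Suborbit3.Octa

open Cfsg CfsgLib.Characters CfsgLib.GL23
open scoped ComplexConjugate

variable {G : Type*} [Group G] {t : G}

/-- A map of the centralizer of `t` onto `GL(2, 3)` whose kernel has odd order and is inverted by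
the elements of determinant `-1` and centralised by the others. -/
structure Frame (t : G) where
  /-- the map -/
  φ : Ct t →* M
  surj : Function.Surjective φ
  odd : Odd (Nat.card φ.ker)
  invert : ∀ h : Ct t, tdet (coords (φ h)) ≠ 1 → ∀ k ∈ φ.ker, h * k * h⁻¹ = k⁻¹
  centralize : ∀ h : Ct t, tdet (coords (φ h)) = 1 → ∀ k ∈ φ.ker, h * k * h⁻¹ = k
  ht : orderOf t = 2

namespace Frame

variable (Φ : Frame t)

/-- The coordinates of an element of the centralizer. -/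
noncomputable def pc (h : Ct t) : T := coords (Φ.φ h)

/-- The order of the kernel. -/
noncomputable def κ : ℕ := Nat.card Φ.φ.ker

/-- The function on the centralizer with values `v`. -/
noncomputable def th (v : Fin 8 → ℂ) : Ct t → ℂ := fun h => v (cls (Φ.pc h))

theorem pc_mem (h : Ct t) : Φ.pc h ∈ gl := mem_gl _

theorem pc_one : Φ.pc 1 = (1, 0, 0, 1) := by rw [pc, map_one, coords_one]

theorem pc_mul (a b : Ct t) : Φ.pc (a * b) = tmul (Φ.pc a) (Φ.pc b) := by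
  rw [pc, map_mul, coords_mul]; rfl

theorem pc_pow (a : Ct t) (n : ℕ) : Φ.pc (a ^ n) = tpow (Φ.pc a) n := by
  rw [pc, map_pow, coords_pow]; rfl

theorem pc_inv (a : Ct t) : Φ.pc a⁻¹ = tinv (Φ.pc a) := by
  rw [pc, map_inv, coords_inv]; rfl

theorem pc_surj {x : T} (hx : x ∈ gl) : ∃ h : Ct t, Φ.pc h = x := by
  obtain ⟨g, hg⟩ := exists_coords (Finset.mem_filter.1 hx).2
  obtain ⟨h, rfl⟩ := Φ.surj g
  exact ⟨h, hg⟩

theorem pc_eq_one_iff {h : Ct t} : Φ.pc h = (1, 0, 0, 1) ↔ h ∈ Φ.φ.ker := by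
  rw [MonoidHom.mem_ker, pc, ← coords_one, coords_injective.eq_iff]

theorem κ_pos [Finite G] : 0 < Φ.κ := Nat.card_pos

theorem pow_κ {k : Ct t} (hk : k ∈ Φ.φ.ker) : k ^ Φ.κ = 1 :=
  orderOf_dvd_iff_pow_eq_one.1 (Subgroup.orderOf_dvd_natCard _ hk)

theorem eq_one_of_sq {k : Ct t} (hk : k ∈ Φ.φ.ker) (h2 : k * k = 1) : k = 1 := by
  have h1 := Φ.pow_κ hk
  obtain ⟨j, hj⟩ := (show Odd Φ.κ from Φ.odd)
  rwa [hj, pow_succ, pow_mul, pow_two, h2, one_pow, one_mul] at h1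

include Φ in
theorem sq_tC : tC t * tC t = 1 := Subtype.ext (sq_t Φ.ht)

include Φ in
theorem comm_tC (y : Ct t) : tC t * y = y * tC t := Subtype.ext (mem_Ct.1 y.2).symm

theorem pc_tC : Φ.pc (tC t) = (2, 0, 0, 2) := by
  refine central_involution _ (Φ.pc_mem _) ?_ ?_ ?_
  · rw [← pc_mul, Φ.sq_tC, pc_one]
  · intro h
    exact t_ne_one Φ.ht (congrArg Subtype.val (Φ.eq_one_of_sq (Φ.pc_eq_one_iff.1 h) Φ.sq_tC))
  · intro y hy
    obtain ⟨h, rfl⟩ := Φ.pc_surj hy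
    rw [← pc_mul, ← pc_mul, Φ.comm_tC]

theorem mem_ker_of_pc_eq {a b : Ct t} (h : Φ.pc a = Φ.pc b) : a⁻¹ * b ∈ Φ.φ.ker := by
  rw [← pc_eq_one_iff, pc_mul, pc_inv, h, ← pc_inv, ← pc_mul, inv_mul_cancel, pc_one]

/-- An element mapping to `-1` which squares to one is `t`. -/
theorem eq_tC_of_sq {a : Ct t} (h : Φ.pc a = (2, 0, 0, 2)) (h2 : a * a = 1) : a = tC t := by
  have hk := Φ.mem_ker_of_pc_eq (Φ.pc_tC.trans h.symm)
  have hinv : (tC t)⁻¹ = tC t := inv_eq_of_mul_eq_one_right Φ.sq_tC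
  rw [hinv] at hk
  have := Φ.eq_one_of_sq hk (by
    calc tC t * a * (tC t * a) = tC t * (a * tC t) * a := by group
      _ = tC t * (tC t * a) * a := by rw [Φ.comm_tC a]
      _ = tC t * tC t * (a * a) := by group
      _ = 1 := by rw [Φ.sq_tC, h2, one_mul])
  calc a = (tC t * tC t) * a := by rw [Φ.sq_tC, one_mul]
    _ = tC t * (tC t * a) := mul_assoc _ _ _
    _ = tC t := by rw [this, mul_one]

theorem cls_two_det : ∀ x ∈ gl, cls x = 2 → tdet x ≠ 1 := by decide +kernel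

theorem sq_of_reflection : ∀ x ∈ gl, cls x = 2 →
    tmul x x = (1, 0, 0, 1) ∧ x ≠ (1, 0, 0, 1) := by decide +kernel

/-- Every preimage of a reflection is an involution. -/
theorem mul_self_of_cls_two {a : Ct t} (h : cls (Φ.pc a) = 2) : a * a = 1 := by
  have hk : a * a ∈ Φ.φ.ker := by
    rw [← pc_eq_one_iff, pc_mul, (sq_of_reflection _ (Φ.pc_mem a) h).1]
  refine Φ.eq_one_of_sq hk ?_
  have := Φ.invert a (cls_two_det _ (Φ.pc_mem a) h) _ hk
  rw [show a * (a * a) * a⁻¹ = a * a by group] at this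
  exact eq_inv_iff_mul_eq_one.1 this

/-- The involutions of the centralizer. -/
theorem sq_one_iff (a : Ct t) : (a * a = 1 ∧ a ≠ 1) ↔ (a = tC t ∨ cls (Φ.pc a) = 2) := by
  constructor
  · rintro ⟨h2, h1⟩
    rcases CfsgLib.GL23.involution_cases _ (Φ.pc_mem a) (by rw [← pc_mul, h2, pc_one])
      (fun e => h1 (Φ.eq_one_of_sq (Φ.pc_eq_one_iff.1 e) h2)) with e | e
    · exact Or.inl (Φ.eq_tC_of_sq e h2)
    · exact Or.inr e
  · rintro (rfl | h)
    · exact ⟨Φ.sq_tC, fun e => t_ne_one Φ.ht (congrArg Subtype.val e)⟩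
    · exact ⟨Φ.mul_self_of_cls_two h, fun e =>
        (sq_of_reflection _ (Φ.pc_mem a) h).2 (by rw [e, pc_one])⟩

theorem tpow_period : ∀ x ∈ gl, tpow x 24 = (1, 0, 0, 1) := by decide +kernel

theorem inS_pow_involution : ∀ x ∈ gl, inS x → ∀ k : Fin 24,
    tmul (tpow x k.val) (tpow x k.val) = (1, 0, 0, 1) → tpow x k.val ≠ (1, 0, 0, 1) →
      tpow x k.val = (2, 0, 0, 2) := by decide +kernel

theorem exists_pow_eq_t {x : Ct t} (hx : inS (Φ.pc x)) : ∃ n : ℕ, (x : G) ^ n = t := by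
  obtain ⟨k, hk⟩ := inS_pow _ (Φ.pc_mem x) hx
  rw [← pc_pow] at hk
  have hker := Φ.mem_ker_of_pc_eq (Φ.pc_tC.trans hk.symm)
  refine ⟨k.val * Φ.κ, ?_⟩
  rw [← Subgroup.coe_pow, pow_mul,
    show x ^ k.val = tC t * ((tC t)⁻¹ * x ^ k.val) by group,
    (show Commute (tC t) ((tC t)⁻¹ * x ^ k.val) from Φ.comm_tC _).mul_pow, Φ.pow_κ hker, mul_one]
  obtain ⟨j, hj⟩ := (show Odd Φ.κ from Φ.odd)
  rw [hj, pow_succ, pow_mul, pow_two, Φ.sq_tC, one_pow, one_mul]
  rfl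

/-- The support is a trivial intersection set. -/
theorem mem_of_conj {x y : Ct t} (hx : inS (Φ.pc x)) (hy : inS (Φ.pc y)) {g : G}
    (h : g * x * g⁻¹ = y) : g ∈ Ct t := by
  obtain ⟨n, hn⟩ := Φ.exists_pow_eq_t hx
  have h1 : g * t * g⁻¹ = ((y ^ n : Ct t) : G) := by rw [Subgroup.coe_pow, ← h, conj_pow, hn]
  have h2 : y ^ n * y ^ n = 1 ∧ y ^ n ≠ 1 := by
    refine ⟨Subtype.ext ?_, fun e => t_ne_one Φ.ht ?_⟩
    · rw [Subgroup.coe_mul, ← h1, Subgroup.coe_one,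
        show g * t * g⁻¹ * (g * t * g⁻¹) = g * (t * t) * g⁻¹ by group, sq_t Φ.ht]
      group
    · rw [e, Subgroup.coe_one] at h1
      exact conj_eq_one_iff.1 h1
  have h3 : y ^ n = tC t := by
    refine Φ.eq_tC_of_sq ?_ h2.1
    rw [pc_pow]
    have hy24 : ∀ m : ℕ, tpow (Φ.pc y) m = tpow (Φ.pc y) (m % 24) := by
      intro m
      have e24 : Φ.φ y ^ 24 = 1 := by
        apply coords_injective
        rw [coords_pow, coords_one]
        exact tpow_period _ (Φ.pc_mem y)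
      rw [pc, ← coords_pow, ← coords_pow, pow_eq_pow_mod m e24]
    have hpow : Φ.pc (y ^ n) = tpow (Φ.pc y) (n % 24) := by rw [pc_pow, hy24]
    rw [hy24]
    refine inS_pow_involution _ (Φ.pc_mem y) hy ⟨n % 24, Nat.mod_lt _ (by norm_num)⟩ ?_ ?_
    · show tmul (tpow (Φ.pc y) (n % 24)) (tpow (Φ.pc y) (n % 24)) = _
      rw [← hpow, ← pc_mul, h2.1, pc_one]
    · show tpow (Φ.pc y) (n % 24) ≠ _
      rw [← hpow]
      exact fun e => h2.2 (Φ.eq_one_of_sq (Φ.pc_eq_one_iff.1 e) h2.1)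
  rw [h3] at h1
  exact mem_Ct.2 (mul_inv_eq_iff_eq_mul.1 h1)

theorem th_conj (v : Fin 8 → ℂ) (a b : Ct t) : Φ.th v (b * a * b⁻¹) = Φ.th v a := by
  simp only [th, pc, map_mul, map_inv]
  exact isClassFunction_cls v _ _

theorem th_eq_zero {v : Fin 8 → ℂ}
    (hv : ∀ i, i ∉ ({1, 4, 5, 6, 7} : Finset (Fin 8)) → v i = 0) {h : Ct t}
    (hh : ¬ inS (Φ.pc h)) : Φ.th v h = 0 := hv _ hh

theorem isGeneralized_th {v : Fin 8 → ℂ} (hv : IsGeneralizedCharacter M (cf v)) :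
    IsGeneralizedCharacter (Ct t) (Φ.th v) := by
  obtain ⟨χ, ψ, hχ, hψ, he⟩ := hv
  exact ⟨fun h => χ (Φ.φ h), fun h => ψ (Φ.φ h), CfsgLib.CharGalois.isCharacter_comp hχ Φ.φ,
    CfsgLib.CharGalois.isCharacter_comp hψ Φ.φ, funext fun h => congrFun he (Φ.φ h)⟩

/-- The fibres have `κ` elements. -/
theorem card_fiber [Fintype (Ct t)] {x : T} (hx : x ∈ gl) :
    (Finset.univ.filter fun h : Ct t => Φ.pc h = x).card = Φ.κ := by
  classical
  obtain ⟨a, ha⟩ := Φ.pc_surj hx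
  rw [κ, Nat.card_eq_fintype_card, ← Finset.card_univ]
  refine (Finset.card_bij (s := (Finset.univ : Finset Φ.φ.ker)) (fun k _ => a * (k : Ct t))
    (fun k _ => ?_) (fun k _ l _ e => ?_) ?_).symm
  · refine Finset.mem_filter.2 ⟨Finset.mem_univ _, ?_⟩
    rw [pc, map_mul, MonoidHom.mem_ker.1 k.2, mul_one]
    exact ha
  · exact Subtype.ext (mul_left_cancel e)
  · intro b hb
    exact ⟨⟨a⁻¹ * b, Φ.mem_ker_of_pc_eq (ha.trans (Finset.mem_filter.1 hb).2.symm)⟩,
      Finset.mem_univ _, mul_inv_cancel_left a b⟩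

theorem sum_th [Fintype (Ct t)] (f : Fin 8 → ℂ) :
    ∑ h : Ct t, Φ.th f h = (Φ.κ : ℂ) * ∑ i, (clsSize i : ℂ) * f i := by
  classical
  letI : Fintype M := Fintype.ofFinite M
  rw [← sum_cls f, sum_coords (fun x => f (cls x)),
    ← Finset.sum_fiberwise_of_maps_to (g := Φ.pc) (t := gl) (fun h _ => Φ.pc_mem h),
    Finset.mul_sum]
  refine Finset.sum_congr rfl fun x hx => ?_
  rw [Finset.sum_congr rfl (g := fun _ => f (cls x)) fun h hh => by
    rw [th, (Finset.mem_filter.1 hh).2], Finset.sum_const, Φ.card_fiber hx, nsmul_eq_mul]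

theorem card_Ct [Finite G] : Nat.card (Ct t) = 48 * Φ.κ := by
  have h := Φ.φ.ker.index_mul_card
  rw [Subgroup.index_ker, MonoidHom.range_eq_top.2 Φ.surj, Subgroup.card_top, card_M] at h
  exact h.symm

theorem not_inS_one : ¬ inS (Φ.pc 1) := by
  rw [pc_one]; decide +kernel

theorem th_supp {v : Fin 8 → ℂ}
    (hv : ∀ i, i ∉ ({1, 4, 5, 6, 7} : Finset (Fin 8)) → v i = 0) :
    ∀ h : Ct t, ¬ inS (Φ.pc h) → Φ.th v h = 0 := fun _ hh => Φ.th_eq_zero hv hh

theorem inS_tC : inS (Φ.pc (tC t)) := by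
  rw [pc_tC]; decide +kernel

theorem th_tC (v : Fin 8 → ℂ) : Φ.th v (tC t) = v 1 := by
  rw [th, pc_tC, show cls (2, 0, 0, 2) = 1 by decide +kernel]

theorem isClassFunction_th (v : Fin 8 → ℂ) : IsClassFunction (Ct t) (Φ.th v) :=
  fun a b => Φ.th_conj v a b

theorem kappa_ne [Finite G] : (Φ.κ : ℂ) ≠ 0 := Nat.cast_ne_zero.2 Φ.κ_pos.ne'

variable [Fintype G]

/-- Restriction of the induced function to the support. -/
theorem ind_apply_inS {f : Ct t → ℂ} (hf : IsClassFunction (Ct t) f)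
    (hs : ∀ h, ¬ inS (Φ.pc h) → f h = 0) {x : Ct t}
    (hx : inS (Φ.pc x)) : indFun (Ct t) f (x : G) = f x := by
  classical
  rw [CfsgLib.Induction.indFun_apply]
  have key : ∀ g : G, extendByZero (Ct t) f (g⁻¹ * x * g) =
      if g ∈ Ct t then f x else 0 := by
    intro g
    by_cases hg : g ∈ Ct t
    · have hm : g⁻¹ * x * g ∈ Ct t := mul_mem (mul_mem (inv_mem hg) x.2) hg
      rw [if_pos hg, CfsgLib.Induction.extendByZero_mem _ _ hm]
      rw [show (⟨g⁻¹ * x * g, hm⟩ : Ct t) = (⟨g, hg⟩ : Ct t)⁻¹ * x * (⟨g, hg⟩ : Ct t)⁻¹⁻¹ from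
        Subtype.ext (by simp)]
      exact hf x _
    · rw [if_neg hg]
      by_cases hm : g⁻¹ * x * g ∈ Ct t
      · rw [CfsgLib.Induction.extendByZero_mem _ _ hm]
        refine hs _ fun hy => hg ?_
        exact Φ.mem_of_conj hy hx (show g * (g⁻¹ * x * g) * g⁻¹ = x by group)
      · rw [CfsgLib.Induction.extendByZero_notMem _ _ hm]
  rw [Finset.sum_congr rfl fun g _ => key g, ← Finset.sum_filter, Finset.sum_const, nsmul_eq_mul,
    ← Fintype.card_subtype, ← Nat.card_eq_fintype_card, ← mul_assoc,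
    inv_mul_cancel₀ (Nat.cast_ne_zero.2 Nat.card_pos.ne'), one_mul]

theorem ind_apply_one {f : Ct t → ℂ} (hs : ∀ h, ¬ inS (Φ.pc h) → f h = 0) :
    indFun (Ct t) f 1 = 0 := by
  rw [CfsgLib.Induction.indFun_one_apply, hs 1 Φ.not_inS_one, mul_zero]

theorem ind_apply_t {f : Ct t → ℂ} (hf : IsClassFunction (Ct t) f)
    (hs : ∀ h, ¬ inS (Φ.pc h) → f h = 0) : indFun (Ct t) f t = f (tC t) :=
  Φ.ind_apply_inS hf hs Φ.inS_tC

/-- Induction from the centralizer preserves inner products on the support. -/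
theorem inner_ind [Fintype (Ct t)] (f : Ct t → ℂ) (hs : ∀ h, ¬ inS (Φ.pc h) → f h = 0)
    {g : Ct t → ℂ} (hg : IsClassFunction (Ct t) g) (hgs : ∀ h, ¬ inS (Φ.pc h) → g h = 0) :
    classInner (indFun (Ct t) f) (indFun (Ct t) g) = classInner f g := by
  rw [CfsgLib.Induction.classInner_indFun _ _ (CfsgLib.Induction.isClassFunction_indFun (Ct t) g),
    classInner, classInner]
  congr 1
  refine Finset.sum_congr rfl fun h _ => ?_
  by_cases hh : inS (Φ.pc h)
  · rw [Φ.ind_apply_inS hg hgs hh]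
  · rw [hs h hh, zero_mul, zero_mul]

theorem inner_th [Fintype (Ct t)] (v w : Fin 8 → ℂ) :
    classInner (Φ.th v) (Φ.th w) = (48 : ℂ)⁻¹ * ∑ i, (clsSize i : ℂ) * (v i * conj (w i)) := by
  rw [classInner, show ∑ h : Ct t, Φ.th v h * conj (Φ.th w h) =
    ∑ h : Ct t, Φ.th (fun i => v i * conj (w i)) h from rfl, Φ.sum_th, Φ.card_Ct]
  have := Φ.kappa_ne
  push_cast
  field_simp

theorem inner_ind_th {v w : Fin 8 → ℂ}
    (hv : ∀ i, i ∉ ({1, 4, 5, 6, 7} : Finset (Fin 8)) → v i = 0)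
    (hw : ∀ i, i ∉ ({1, 4, 5, 6, 7} : Finset (Fin 8)) → w i = 0) :
    classInner (indFun (Ct t) (Φ.th v)) (indFun (Ct t) (Φ.th w)) =
      (48 : ℂ)⁻¹ * ∑ i, (clsSize i : ℂ) * (v i * conj (w i)) := by
  letI : Fintype (Ct t) := Fintype.ofFinite _
  rw [Φ.inner_ind _ (Φ.th_supp hv) (Φ.isClassFunction_th w) (Φ.th_supp hw), Φ.inner_th]

theorem inner_ind_one (v : Fin 8 → ℂ) :
    classInner (indFun (Ct t) (Φ.th v)) (fun _ => 1) =
      (48 : ℂ)⁻¹ * ∑ i, (clsSize i : ℂ) * v i := by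
  letI : Fintype (Ct t) := Fintype.ofFinite _
  rw [CfsgLib.Induction.classInner_indFun _ _ (fun _ _ => rfl),
    show (fun h : Ct t => (1 : ℂ)) = Φ.th (fun _ => 1) from rfl, Φ.inner_th]
  simp

theorem inS_ne_central : ∀ z ∈ gl, inS z →
    ¬ (tmul (tmul (2, 0, 0, 2) z) (tmul (2, 0, 0, 2) z) = (1, 0, 0, 1) ∧
      tmul (2, 0, 0, 2) z ≠ (1, 0, 0, 1)) := by decide +kernel

theorem inS_reflection_mul : ∀ z ∈ gl, inS z → ∀ y ∈ gl, cls y = 2 → tmul y z ≠ (2, 0, 0, 2) := by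
  decide +kernel

/-- If all involutions are conjugate: the number of factorisations. -/
theorem count_fused [DecidableRel (IsConj : G → G → Prop)]
    (hall : ∀ a : G, a * a = 1 → a ≠ 1 → IsConj t a) (x : Ct t) (hx : inS (Φ.pc x)) :
    (Finset.univ.filter fun a : G => IsConj t a ∧ IsConj t (a * x)).card =
      Φ.κ * invTbl (cls (Φ.pc x)) := by
  classical
  letI : Fintype (Ct t) := Fintype.ofFinite _
  obtain ⟨n, hn⟩ := Φ.exists_pow_eq_t hx
  rw [← card_invPairs _ (Φ.pc_mem x) hx]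
  have hmem : ∀ a ∈ Finset.univ.filter (fun a : G => IsConj t a ∧ IsConj t (a * x)), a ∈ Ct t :=
    fun a ha => conj_t_eq hn Φ.ht (sq_of_isConj Φ.ht (Finset.mem_filter.1 ha).2.1).1
      (sq_of_isConj Φ.ht (Finset.mem_filter.1 ha).2.2).1
  have hpair : ∀ y ∈ gl, ∀ x' ∈ gl, inS x' → y ∈ invPairs x' →
      cls y = 2 ∧ cls (tmul y x') = 2 := by
    intro y hy x' hx' hin hyp
    obtain ⟨-, hy1, hy2⟩ := Finset.mem_filter.1 hyp
    obtain ⟨a, rfl⟩ := Φ.pc_surj hy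
    obtain ⟨b, rfl⟩ := Φ.pc_surj hx'
    have hb : (Φ.pc b).1 = (Φ.pc b).1 := rfl
    rcases CfsgLib.GL23.involution_cases _ hy hy1.1 hy1.2 with e | e
    · exfalso
      rw [e] at hy2
      exact inS_ne_central _ hx' hin hy2
    · refine ⟨e, ?_⟩
      rcases CfsgLib.GL23.involution_cases _ (by rw [← pc_mul]; exact Φ.pc_mem _) hy2.1 hy2.2 with e' | e'
      · exfalso
        exact inS_reflection_mul _ hx' hin _ hy e e'
      · exact e'
  rw [mul_comm, Finset.card_eq_sum_ones, ← Finset.sum_fiberwise_of_maps_to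
    (g := fun a : G => if h : a ∈ Ct t then Φ.pc ⟨a, h⟩ else (1, 0, 0, 1)) (t := invPairs (Φ.pc x))]
  · rw [← smul_eq_mul, ← Finset.sum_const]
    refine Finset.sum_congr rfl fun y hy => ?_
    rw [← Finset.card_eq_sum_ones]
    have hygl : y ∈ gl := (Finset.mem_filter.1 hy).1
    obtain ⟨c1, c2⟩ := hpair y hygl _ (Φ.pc_mem x) hx hy
    rw [← Φ.card_fiber hygl]
    symm
    refine Finset.card_bij (fun h _ => (h : G)) (fun h hh => ?_)
      (fun h _ h' _ e => Subtype.ext e) (fun a ha => ?_)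
    · rw [Finset.mem_filter] at hh
      simp only [Finset.mem_filter, Finset.mem_univ, true_and]
      have q1 := (Φ.sq_one_iff h).2 (Or.inr (by rw [hh.2]; exact c1))
      have q2 := (Φ.sq_one_iff (h * x)).2 (Or.inr (by rw [pc_mul, hh.2]; exact c2))
      refine ⟨⟨hall _ (congrArg Subtype.val q1.1) (fun e => q1.2 (Subtype.ext e)),
        hall _ (congrArg Subtype.val q2.1) (fun e => q2.2 (Subtype.ext e))⟩, ?_⟩
      rw [dif_pos h.2]
      exact hh.2
    · rw [Finset.mem_filter] at ha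
      have hm := hmem a ha.1
      refine ⟨⟨a, hm⟩, Finset.mem_filter.2 ⟨Finset.mem_univ _, ?_⟩, rfl⟩
      have := ha.2
      rwa [dif_pos hm] at this
  · intro a ha
    have hm := hmem a ha
    rw [dif_pos hm]
    obtain ⟨h1, h2⟩ := (Finset.mem_filter.1 ha).2
    obtain ⟨p1, p2⟩ := sq_of_isConj Φ.ht h1
    obtain ⟨q1, q2⟩ := sq_of_isConj Φ.ht h2
    have key : ∀ b : Ct t, (b : G) * b = 1 → (b : G) ≠ 1 →
        tmul (Φ.pc b) (Φ.pc b) = (1, 0, 0, 1) ∧ Φ.pc b ≠ (1, 0, 0, 1) := by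
      intro b hb1 hb2
      have hb : b * b = 1 := Subtype.ext hb1
      refine ⟨by rw [← pc_mul, hb, pc_one], fun e => hb2 ?_⟩
      exact congrArg Subtype.val (Φ.eq_one_of_sq (Φ.pc_eq_one_iff.1 e) hb)
    refine Finset.mem_filter.2 ⟨Φ.pc_mem _, key ⟨a, hm⟩ p1 p2, ?_⟩
    have := key (⟨a, hm⟩ * x) q1 q2
    rwa [pc_mul] at this

/-- The structure constant against an induced function. -/
theorem sum_involution_products [DecidableRel (IsConj : G → G → Prop)] {v : Fin 8 → ℂ}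
    (hv : ∀ i, i ∉ ({1, 4, 5, 6, 7} : Finset (Fin 8)) → v i = 0) (w : Fin 8 → ℂ)
    (hN : ∀ x : Ct t, inS (Φ.pc x) →
      ((Finset.univ.filter fun a : G => IsConj t a ∧ IsConj t (a * x)).card : ℂ) = w (cls (Φ.pc x))) :
    ∑ a ∈ Finset.univ.filter (IsConj t), ∑ b ∈ Finset.univ.filter (IsConj t),
        indFun (Ct t) (Φ.th v) (a * b) =
      (Nat.card G : ℂ) * (48 : ℂ)⁻¹ * ∑ i, (clsSize i : ℂ) * (v i * w i) := by
  letI : Fintype (Ct t) := Fintype.ofFinite _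
  let n : G → ℂ := fun x =>
    ((Finset.univ.filter fun a : G => IsConj t a ∧ IsConj t (a * x)).card : ℂ)
  have hconj : ∀ (g a : G), IsConj t (g * a * g⁻¹) ↔ IsConj t a := fun g a =>
    ⟨fun h => h.trans (isConj_iff.2 ⟨g⁻¹, by group⟩), fun h => h.trans (isConj_iff.2 ⟨g, rfl⟩)⟩
  have hn : IsClassFunction G n := by
    intro x g
    simp only [n]
    congr 1
    refine (Finset.card_bij' (fun a _ => g * a * g⁻¹) (fun a _ => g⁻¹ * a * g) ?_ ?_ ?_ ?_).symm
    · intro a ha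
      simp only [Finset.mem_filter, Finset.mem_univ, true_and] at ha ⊢
      refine ⟨(hconj g a).2 ha.1, ?_⟩
      rw [show g * a * g⁻¹ * (g * x * g⁻¹) = g * (a * x) * g⁻¹ by group]
      exact (hconj g _).2 ha.2
    · intro a ha
      simp only [Finset.mem_filter, Finset.mem_univ, true_and] at ha ⊢
      refine ⟨(hconj g _).1 (by simpa [mul_assoc] using ha.1), (hconj g _).1 ?_⟩
      rw [show g * (g⁻¹ * a * g * x) * g⁻¹ = a * (g * x * g⁻¹) by group]
      exact ha.2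
    · intro a _; group
    · intro a _; group
  have hsq : ∀ a : G, IsConj t a → a * a = 1 := fun a ha => (sq_of_isConj Φ.ht ha).1
  have h1 : ∀ F : G → ℂ, ∑ a ∈ Finset.univ.filter (IsConj t),
      ∑ b ∈ Finset.univ.filter (IsConj t), F (a * b) = ∑ x : G, F x * n x := by
    intro F
    calc ∑ a ∈ Finset.univ.filter (IsConj t), ∑ b ∈ Finset.univ.filter (IsConj t), F (a * b)
        = ∑ a ∈ Finset.univ.filter (IsConj t), ∑ x : G, if IsConj t (a * x) then F x else 0 := by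
          refine Finset.sum_congr rfl fun a ha => ?_
          rw [Finset.sum_filter]
          refine Fintype.sum_equiv (Equiv.mulLeft a) _ _ fun b => ?_
          rw [Equiv.coe_mulLeft, ← mul_assoc, hsq a (Finset.mem_filter.1 ha).2, one_mul]
      _ = ∑ x : G, F x * n x := by
          rw [Finset.sum_comm]
          refine Finset.sum_congr rfl fun x _ => ?_
          rw [← Finset.sum_filter, Finset.sum_const, Finset.filter_filter, nsmul_eq_mul, mul_comm]
  have h2 := CfsgLib.Induction.sum_indFun_mul (Ct t) (Φ.th v) (f := n) hn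
  have hg : (Nat.card G : ℂ) ≠ 0 := Nat.cast_ne_zero.2 Nat.card_pos.ne'
  have e : ∑ h : Ct t, Φ.th v h * n h = (Φ.κ : ℂ) * ∑ i, (clsSize i : ℂ) * (v i * w i) := by
    rw [← Φ.sum_th]
    refine Finset.sum_congr rfl fun h _ => ?_
    by_cases hh : inS (Φ.pc h)
    · simp only [n, hN h hh]; rfl
    · rw [Φ.th_eq_zero hv hh, zero_mul]
      simp only [th] at *
      rw [hv _ hh, zero_mul]
  rw [e, Φ.card_Ct] at h2
  rw [h1]
  have := Φ.kappa_ne
  push_cast at h2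
  field_simp at h2 ⊢
  linear_combination h2

end Frame

end CfsgLib.Suborbit3.Octa
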