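import Cfsg.Agent.Lib.Suborbit3.Octa.Frame
import Cfsg.Agent.Lib.PermSmall.FeitDual

/-!
# The quaternion subgroup above `GL(2, 3)` and translation invariance
-/

set_option autoImplicit false
set_option linter.style.haveILetI false
set_option linter.unusedSectionVars false

namespace CfsgLib.Suborbit3.Octa

open Cfsg CfsgLib.Characters CfsgLib.GL23
open scoped ComplexConjugate

/-- The quaternion subgroup in coordinates. -/
def pQ (x : T) : Prop := tdet x = 1 ∧ tpow x 4 = (1, 0, 0, 1)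

instance : DecidablePred pQ := fun _ => inferInstanceAs (Decidable (_ ∧ _))

theorem pQ_mul : ∀ x y, pQ x → pQ y → pQ (tmul x y) := by decide +kernel

theorem pQ_one : pQ (1, 0, 0, 1) := by decide +kernel

theorem pQ_inv : ∀ x ∈ gl, pQ x → pQ (tinv x) := by decide +kernel

theorem pQ_conj : ∀ g ∈ gl, ∀ x ∈ gl, pQ g → pQ (tmul (tmul x g) (tinv x)) := by decide +kernel

theorem pQ_conj_cases : ∀ a ∈ gl, ∀ b ∈ gl, pQ a → pQ b →
    tmul (tmul b a) (tinv b) = a ∨ tmul (tmul b a) (tinv b) = tinv a := by decide +kernel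

theorem det_one_mul : ∀ x y : T, tdet x = 1 → tdet y = 1 → tdet (tmul x y) = 1 := by decide +kernel

theorem sl_decomp : ∀ x ∈ gl, tdet x = 1 → ∃ i : Fin 3,
    pQ (tmul (tinv (tpow (1, 1, 0, 1) i.val)) x) := by decide +kernel

theorem det_mul_eq : ∀ x ∈ gl, ∀ y ∈ gl, tdet (tmul x y) = tdet x * tdet y := by decide +kernel

theorem det_cases : ∀ x ∈ gl, tdet x = 1 ∨ tdet x = 2 := by decide +kernel

theorem det_conj : ∀ g ∈ gl, ∀ x ∈ gl, tdet g = 1 → tdet (tmul (tmul x g) (tinv x)) = 1 := by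
  decide +kernel

theorem card_filter_pQ : (gl.filter pQ).card = 8 ∧ (gl.filter fun x => tdet x = 1).card = 24 := by
  decide +kernel

namespace Frame

variable {G : Type*} [Group G] {t : G} (Φ : Frame t)

theorem pc_conj (x g : Ct t) :
    Φ.pc (x * g * x⁻¹) = tmul (tmul (Φ.pc x) (Φ.pc g)) (tinv (Φ.pc x)) := by
  rw [pc_mul, pc_mul, pc_inv]

theorem comm_ker {h k : Ct t} (hh : tdet (Φ.pc h) = 1) (hk : k ∈ Φ.φ.ker) : h * k = k * h :=
  mul_inv_eq_iff_eq_mul.1 (Φ.centralize h hh k hk)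

theorem det_of_mem_ker {k : Ct t} (hk : k ∈ Φ.φ.ker) : tdet (Φ.pc k) = 1 := by
  rw [Φ.pc_eq_one_iff.2 hk]; decide +kernel

theorem pc_mul_ker {h k : Ct t} (hk : k ∈ Φ.φ.ker) : Φ.pc (h * k) = Φ.pc h := by
  rw [pc, map_mul, MonoidHom.mem_ker.1 hk, mul_one]; rfl

/-- The elements of determinant one. -/
def D : Subgroup (Ct t) where
  carrier := {h | tdet (Φ.pc h) = 1}
  one_mem' := Φ.det_of_mem_ker (one_mem _)
  mul_mem' := fun {a b} ha hb => by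
    show tdet (Φ.pc (a * b)) = 1
    rw [pc_mul]; exact det_one_mul _ _ ha hb
  inv_mem' := fun {a} ha => by
    show tdet (Φ.pc a⁻¹) = 1
    rw [pc_inv]
    have : ∀ x ∈ gl, tdet x = 1 → tdet (tinv x) = 1 := by decide +kernel
    exact this _ (Φ.pc_mem a) ha

theorem mem_D {h : Ct t} : h ∈ Φ.D ↔ tdet (Φ.pc h) = 1 := Iff.rfl

instance normal_D : Φ.D.Normal where
  conj_mem g hg x := by
    rw [mem_D, pc_conj]
    exact det_conj _ (Φ.pc_mem g) _ (Φ.pc_mem x) hg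

theorem ker_le_D {k : Ct t} (hk : k ∈ Φ.φ.ker) : k ∈ Φ.D := Φ.det_of_mem_ker hk

theorem pow_four_eq_one {k : Ct t} (hk : k ∈ Φ.φ.ker) (h : k ^ 4 = 1) : k = 1 := by
  refine Φ.eq_one_of_sq hk (Φ.eq_one_of_sq (mul_mem hk hk) ?_)
  rw [← h, pow_succ, pow_succ, pow_two, mul_assoc (k * k)]

/-- Uniqueness of the lift of period four. -/
theorem lift_unique {a b : Ct t} (ha : tdet (Φ.pc a) = 1) (ha4 : a ^ 4 = 1) (hb4 : b ^ 4 = 1)
    (h : Φ.pc a = Φ.pc b) : a = b := by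
  have hk := Φ.mem_ker_of_pc_eq h
  have hc : Commute a (a⁻¹ * b) := Φ.comm_ker ha hk
  have := Φ.pow_four_eq_one hk (by
    have e := hc.mul_pow 4
    rw [mul_inv_cancel_left, ha4, one_mul, hb4] at e
    exact e.symm)
  exact inv_mul_eq_one.1 this

/-- The quaternion subgroup. -/
def Q : Subgroup (Ct t) where
  carrier := {h | pQ (Φ.pc h) ∧ h ^ 4 = 1}
  one_mem' := ⟨by rw [pc_one]; exact pQ_one, one_pow 4⟩
  inv_mem' := fun {a} ha => ⟨by rw [pc_inv]; exact pQ_inv _ (Φ.pc_mem a) ha.1,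
    by rw [inv_pow, ha.2, inv_one]⟩
  mul_mem' := fun {a b} ha hb => by
    refine ⟨by rw [pc_mul]; exact pQ_mul _ _ ha.1 hb.1, ?_⟩
    have h4 : (b * a * b⁻¹) ^ 4 = 1 := by rw [conj_pow, ha.2]; group
    rcases pQ_conj_cases _ (Φ.pc_mem a) _ (Φ.pc_mem b) ha.1 hb.1 with e | e
    · rw [← pc_conj] at e
      have h := Φ.lift_unique ha.1.1 ha.2 h4 e.symm
      have hc : Commute a b := by
        show a * b = b * a
        conv_lhs => rw [h]
        group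
      rw [hc.mul_pow, ha.2, hb.2, one_mul]
    · rw [← pc_conj, ← pc_inv] at e
      have h := Φ.lift_unique (a := a⁻¹)
        (by rw [pc_inv]; exact (pQ_inv _ (Φ.pc_mem a) ha.1).1)
        (by rw [inv_pow, ha.2, inv_one]) h4 e.symm
      have h2 : a * b * (a * b) = b * b := by
        calc a * b * (a * b) = a * (b * a * b⁻¹) * (b * b) := by group
          _ = b * b := by rw [← h]; group
      calc (a * b) ^ 4 = (a * b * (a * b)) ^ 2 := by rw [← pow_two, ← pow_mul]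
        _ = b ^ 4 := by rw [h2, ← pow_two, ← pow_mul]
        _ = 1 := hb.2

theorem mem_Q {h : Ct t} : h ∈ Φ.Q ↔ pQ (Φ.pc h) ∧ h ^ 4 = 1 := Iff.rfl

theorem Q_le_D {h : Ct t} (hh : h ∈ Φ.Q) : h ∈ Φ.D := hh.1.1

instance normal_Q : Φ.Q.Normal where
  conj_mem g hg x := ⟨by rw [pc_conj]; exact pQ_conj _ (Φ.pc_mem g) _ (Φ.pc_mem x) hg.1,
    by rw [conj_pow, hg.2]; group⟩

theorem tC_mem_Q : tC t ∈ Φ.Q :=
  ⟨by rw [pc_tC]; decide +kernel, by rw [show 4 = 2 * 2 from rfl, pow_mul, pow_two (tC t), Φ.sq_tC, one_pow]⟩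

/-- Lifts into the quaternion subgroup. -/
theorem exists_lift {h : Ct t} (hh : pQ (Φ.pc h)) :
    ∃ k ∈ Φ.φ.ker, ∃ q ∈ Φ.Q, h = k * q := by
  have h4 : h ^ 4 ∈ Φ.φ.ker := by
    rw [← pc_eq_one_iff, pc_pow]; exact hh.2
  obtain ⟨j, hj⟩ := (show Odd Φ.κ from Φ.odd)
  obtain ⟨r, hr⟩ : ∃ r : ℕ, 4 * r % Φ.κ = 1 % Φ.κ := by
    have hco : Nat.Coprime 4 Φ.κ := by
      rw [show 4 = 2 ^ 2 from rfl]
      exact Nat.Coprime.pow_left 2 (Nat.coprime_two_left.2 ⟨j, hj⟩)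
    obtain ⟨r, -, hr⟩ := Nat.exists_mul_mod_eq_of_coprime 1 hco (by omega)
    exact ⟨r, hr⟩
  have hq : (h ^ 4) ^ r ∈ Φ.φ.ker := pow_mem h4 r
  refine ⟨(h ^ 4) ^ r, hq, ((h ^ 4) ^ r)⁻¹ * h, ⟨?_, ?_⟩, by group⟩
  · rw [pc_mul, Φ.pc_eq_one_iff.2 (inv_mem hq)]
    have : ∀ x : T, tmul (1, 0, 0, 1) x = x := by decide +kernel
    rw [this]; exact hh
  · have hc : Commute ((h ^ 4) ^ r)⁻¹ h := (((Commute.refl h).pow_left 4).pow_left r).inv_left
    rw [hc.mul_pow, inv_pow, ← pow_mul (h ^ 4), inv_mul_eq_one, mul_comm r 4,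
      pow_eq_pow_mod (4 * r) (Φ.pow_κ h4), hr, ← pow_eq_pow_mod 1 (Φ.pow_κ h4), pow_one]

/-- The quotient of `D` by the quaternion subgroup. -/
abbrev A : Type _ := Φ.D ⧸ Φ.Q.subgroupOf Φ.D

theorem commutative_A : IsMulCommutative Φ.A := by
  obtain ⟨x, hx⟩ := Φ.pc_surj (x := (1, 1, 0, 1)) (by decide +kernel)
  have hxD : x ∈ Φ.D := by rw [mem_D, hx]; decide +kernel
  have hgen : ∀ a : Φ.A, ∃ (i : ℕ) (k : Φ.D), (k : Ct t) ∈ Φ.φ.ker ∧
      a = ((⟨x, hxD⟩ ^ i * k : Φ.D) : Φ.A) := by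
    intro a
    induction a using QuotientGroup.induction_on with
    | H d =>
      obtain ⟨i, hi⟩ := sl_decomp _ (Φ.pc_mem (d : Ct t)) d.2
      rw [← hx, ← pc_pow, ← pc_inv, ← pc_mul] at hi
      obtain ⟨k, hk, q, hq, e⟩ := Φ.exists_lift hi
      refine ⟨i.val, ⟨k, Φ.ker_le_D hk⟩, hk, ?_⟩
      rw [QuotientGroup.eq]
      show (d : Ct t)⁻¹ * (x ^ i.val * k) ∈ Φ.Q
      rw [show (d : Ct t) = x ^ i.val * (k * q) by rw [← e]; group,
        show (x ^ i.val * (k * q))⁻¹ * (x ^ i.val * k) = q⁻¹ by group]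
      exact inv_mem hq
  have hcomm : ∀ {k : Φ.D}, (k : Ct t) ∈ Φ.φ.ker → ∀ y : Φ.D, Commute k y := fun hk y =>
    Subtype.ext (Φ.comm_ker y.2 hk).symm
  refine ⟨⟨fun a b => ?_⟩⟩
  obtain ⟨i, k, hk, rfl⟩ := hgen a
  obtain ⟨j, l, hl, rfl⟩ := hgen b
  rw [← QuotientGroup.mk_mul, ← QuotientGroup.mk_mul]
  congr 1
  exact ((((Commute.refl _).pow_pow i j).mul_right (hcomm hl _).symm).mul_left (hcomm hk _)).eq

/-- The image of an element of the kernel in the quotient. -/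
def kA (k : Φ.φ.ker) : Φ.A := ((⟨k, Φ.ker_le_D k.2⟩ : Φ.D) : Φ.A)

/-- A linear character of the quotient, as a function on `D`. -/
def lam (l : Φ.A →* ℂˣ) (h : Φ.D) : ℂ := (l (h : Φ.A) : ℂ)

theorem lam_mul (l : Φ.A →* ℂˣ) (a b : Φ.D) : Φ.lam l (a * b) = Φ.lam l a * Φ.lam l b := by
  simp [lam]

theorem lam_Q (l : Φ.A →* ℂˣ) {h : Φ.D} (hh : (h : Ct t) ∈ Φ.Q) : Φ.lam l h = 1 := by
  rw [lam, (QuotientGroup.eq_one_iff h).2 hh, map_one, Units.val_one]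

/-- Translation invariance from the vanishing of twisted sums. -/
theorem shift_invariant [Fintype Φ.D] [Fintype Φ.Q] {g : Ct t → ℂ} (k : Φ.φ.ker)
    (h : ∀ l : Φ.A →* ℂˣ, l (Φ.kA k) ≠ 1 → ∑ x : Φ.D, Φ.lam l x * g x = 0) :
    ∑ q : Φ.Q, g ((k : Ct t) * q) = ∑ q : Φ.Q, g q := by
  classical
  haveI := Φ.commutative_A
  haveI : Finite Φ.A := inferInstance
  letI : Fintype Φ.A := Fintype.ofFinite _
  let ψ : Φ.A → ℂ := fun a => ∑ x ∈ Finset.univ.filter (fun x : Φ.D => (x : Φ.A) = a), g x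
  have hψ : ∀ k' : Φ.D, ψ (k' : Φ.A) = ∑ q : Φ.Q, g ((k' : Ct t) * q) := by
    intro k'
    refine (Finset.sum_bij (fun q _ => k' * ⟨q, Φ.Q_le_D q.2⟩) ?_ ?_ ?_ ?_).symm
    · intro q _
      refine Finset.mem_filter.2 ⟨Finset.mem_univ _, ?_⟩
      rw [QuotientGroup.eq, Subgroup.mem_subgroupOf]
      simpa using q.2
    · intro q _ q' _ e
      exact Subtype.ext (congrArg (fun z : Φ.D => (z : Ct t)) (mul_left_cancel e))
    · intro x hx
      have hx' := QuotientGroup.eq.1 (Finset.mem_filter.1 hx).2.symm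
      exact ⟨⟨_, hx'⟩, Finset.mem_univ _, Subtype.ext (by simp)⟩
    · intro q _; rfl
  have hψk : ψ (Φ.kA k) = ∑ q : Φ.Q, g ((k : Ct t) * q) := hψ ⟨k, Φ.ker_le_D k.2⟩
  have hψ1 : ψ 1 = ∑ q : Φ.Q, g q := by
    rw [← QuotientGroup.mk_one, hψ 1]; simp
  have hsum : ∀ l : Φ.A →* ℂˣ, ∑ a, (l a : ℂ) * ψ a = ∑ x : Φ.D, Φ.lam l x * g x := by
    intro l
    rw [← Finset.sum_fiberwise (Finset.univ : Finset Φ.D) (fun x => (x : Φ.A))
      (fun x => Φ.lam l x * g x)]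
    refine Finset.sum_congr rfl fun a _ => ?_
    rw [Finset.mul_sum]
    refine Finset.sum_congr rfl fun x hx => ?_
    rw [lam, (Finset.mem_filter.1 hx).2]
  have key : ∀ l : Φ.A →* ℂˣ, ∑ a, (l a : ℂ) * (ψ (Φ.kA k * a) - ψ a) = 0 := by
    intro l
    have e : ∑ a, (l a : ℂ) * ψ (Φ.kA k * a) = ((l (Φ.kA k) : ℂ))⁻¹ * ∑ a, (l a : ℂ) * ψ a := by
      rw [← Equiv.sum_comp (Equiv.mulLeft (Φ.kA k)) (fun a => (l a : ℂ) * ψ a), Finset.mul_sum]
      refine Finset.sum_congr rfl fun a _ => ?_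
      rw [Equiv.coe_mulLeft, map_mul, Units.val_mul]
      field_simp
    simp only [mul_sub, Finset.sum_sub_distrib]
    by_cases hl : l (Φ.kA k) = 1
    · rw [e, hl]; simp
    · rw [e, hsum, h l hl]; simp
  have h2 : ∑ l : Φ.A →* ℂˣ, ∑ a, (l a : ℂ) * (ψ (Φ.kA k * a) - ψ a) = 0 :=
    Finset.sum_eq_zero fun l _ => key l
  rw [Finset.sum_comm] at h2
  simp only [← Finset.sum_mul, CfsgLib.PermSmall.FeitDual.sum_dual, ite_mul, zero_mul,
    Finset.sum_ite_eq', Finset.mem_univ, if_true, mul_one] at h2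
  rw [← hψk, ← hψ1]
  exact sub_eq_zero.1 ((mul_eq_zero.1 h2).resolve_left (Nat.cast_ne_zero.2 Nat.card_pos.ne'))

end Frame

end CfsgLib.Suborbit3.Octa
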