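import Cfsg.Agent.Lib.Suborbit3.Octa.Degree
import Cfsg.Agent.Lib.Characters.Artin

/-!
# Twisted exceptional functions
-/

set_option autoImplicit false
set_option linter.style.haveILetI false
set_option linter.unusedSectionVars false

namespace CfsgLib.Suborbit3.Octa

open Cfsg CfsgLib.Characters CfsgLib.GL23 CfsgLib.PermSmall
open scoped ComplexConjugate

theorem det_one_cls : ∀ x ∈ gl,
    (tdet x = 1 ↔ ¬ (cls x = 2 ∨ cls x = 6 ∨ cls x = 7)) := by decide +kernel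

theorem vPM_supp (s : ℂ) :
    ∀ i, i ∉ ({1, 4, 5, 6, 7} : Finset (Fin 8)) → vPM s i = 0 := by
  intro i hi; fin_cases i <;> simp [vPM] at hi ⊢

/-- The two signs. -/
theorem vPM_gen (s : ℂ) (hs : s = 2 ∨ s = -2) : ∃ w : Fin 8 → ℂ,
    IsGeneralizedCharacter M (cf w) ∧ ∀ x ∈ gl, tdet x = 1 → w (cls x) = vPM s (cls x) := by
  have key : ∀ (w : Fin 8 → ℂ), w 0 = 0 → w 1 = 4 → w 3 = 0 → w 4 = -2 → w 5 = s →
      ∀ x ∈ gl, tdet x = 1 → w (cls x) = vPM s (cls x) := by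
    intro w h0 h1 h3 h4 h5 x hx hd
    have := (det_one_cls x hx).1 hd
    generalize cls x = i at this
    fin_cases i <;> simp_all [vPM]
  rcases hs with rfl | rfl
  · exact ⟨vD, isGeneralized_D, key _ rfl rfl rfl rfl rfl⟩
  · refine ⟨vD + vE - vA, ?_, key _ ?_ ?_ ?_ ?_ ?_⟩
    · exact isGeneralizedCharacter_sub
        (isGeneralizedCharacter_add isGeneralized_D isGeneralized_E) isGeneralized_A
    all_goals simp [vD, vE, vA] <;> norm_num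

namespace Frame

variable {G : Type*} [Group G] {t : G} (Φ : Frame t)
variable [Fintype (Ct t)] [Fintype Φ.D]

theorem sum_D_th (w : Fin 8 → ℂ) (h2 : w 2 = 0) (h6 : w 6 = 0) (h7 : w 7 = 0) :
    ∑ h : Φ.D, Φ.th w h = (Φ.κ : ℂ) * ∑ i, (clsSize i : ℂ) * w i := by
  classical
  rw [← Φ.sum_th]
  refine (CfsgLib.CharArtin.sum_subtype_of_support (Φ.th w) (· ∈ Φ.D) fun h hh => ?_).symm
  by_contra hD
  have := mt (det_one_cls _ (Φ.pc_mem h)).2 hD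
  push Not at this
  rcases this with e | e | e <;> simp only [th, e] at hh <;> exact hh (by assumption)

theorem card_D [Finite G] : (Nat.card Φ.D : ℂ) = 24 * Φ.κ := by
  have h := Φ.sum_D_th ![1, 1, 0, 1, 1, 1, 0, 0] rfl rfl rfl
  have e : ∀ h : Φ.D, Φ.th ![1, 1, 0, 1, 1, 1, 0, 0] (h : Ct t) = 1 := by
    intro h
    have := (det_one_cls _ (Φ.pc_mem (h : Ct t))).1 h.2
    unfold th
    generalize cls (Φ.pc (h : Ct t)) = i at this
    fin_cases i <;> simp_all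
  rw [Finset.sum_congr rfl fun h _ => e h, Finset.sum_const, Finset.card_univ,
    ← Nat.card_eq_fintype_card, nsmul_eq_mul, mul_one] at h
  rw [h]
  simp [Fin.sum_univ_eight, clsSize]
  ring

theorem th_mul_ker {h : Ct t} (v : Fin 8 → ℂ) {k : Ct t} (hk : k ∈ Φ.φ.ker) :
    Φ.th v (h * k) = Φ.th v h := by
  rw [th, th, Φ.pc_mul_ker hk]

/-- A twisted sum of a function of the class vanishes. -/
theorem sum_lam_th (l : Φ.A →* ℂˣ) (k : Φ.φ.ker) (hk : l (Φ.kA k) ≠ 1) (v : Fin 8 → ℂ) :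
    ∑ h : Φ.D, Φ.lam l h * Φ.th v h = 0 := by
  have hne : (l (Φ.kA k) : ℂ) ≠ 1 := fun e => hk (Units.ext e)
  have hshift : ∑ h : Φ.D, Φ.lam l h * Φ.th v h =
      (l (Φ.kA k) : ℂ) * ∑ h : Φ.D, Φ.lam l h * Φ.th v h := by
    conv_lhs => rw [← Equiv.sum_comp (Equiv.mulRight (⟨k, Φ.ker_le_D k.2⟩ : Φ.D))]
    rw [Finset.mul_sum]
    refine Finset.sum_congr rfl fun h _ => ?_
    rw [Equiv.coe_mulRight, Φ.lam_mul, Subgroup.coe_mul, Φ.th_mul_ker v k.2]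
    show Φ.lam l h * (l (Φ.kA k) : ℂ) * _ = _
    ring
  have h0 : ((l (Φ.kA k) : ℂ) - 1) * ∑ h : Φ.D, Φ.lam l h * Φ.th v h = 0 := by
    rw [sub_mul, one_mul, ← hshift, sub_self]
  exact (mul_eq_zero.1 h0).resolve_left (sub_ne_zero.2 hne)

/-- The twisted function on `D`. -/
noncomputable def fD (l : Φ.A →* ℂˣ) (s : ℂ) : Φ.D → ℂ :=
  fun h => Φ.lam l h * Φ.th (vPM s) h

/-- The twisted function on the centralizer. -/
noncomputable def fC (l : Φ.A →* ℂˣ) (s : ℂ) : Ct t → ℂ := indFun Φ.D (Φ.fD l s)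

theorem conjD_mem (x : Ct t) (h : Φ.D) : x * (h : Ct t) * x⁻¹ ∈ Φ.D :=
  Subgroup.Normal.conj_mem inferInstance (h : Ct t) h.2 x

theorem fC_apply (l : Φ.A →* ℂˣ) (s : ℂ) (h : Φ.D) :
    Φ.fC l s h = Φ.th (vPM s) h *
      ((Nat.card Φ.D : ℂ)⁻¹ * ∑ x : Ct t, Φ.lam l ⟨_, Φ.conjD_mem x h⟩) := by
  rw [fC, CfsgLib.Induction.indFun_normal_apply, mul_left_comm, Finset.mul_sum (a := Φ.th _ _)]
  congr 1
  refine Finset.sum_congr rfl fun x _ => ?_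
  show Φ.lam l _ * Φ.th (vPM s) (x * (h : Ct t) * x⁻¹) = _
  rw [Φ.th_conj, mul_comm]

theorem fC_supp (l : Φ.A →* ℂˣ) (s : ℂ) (h : Ct t) (hh : ¬ inS (Φ.pc h)) : Φ.fC l s h = 0 := by
  by_cases hD : h ∈ Φ.D
  · rw [show h = ((⟨h, hD⟩ : Φ.D) : Ct t) from rfl, fC_apply, Φ.th_eq_zero (vPM_supp s) hh,
      zero_mul]
  · exact CfsgLib.Induction.indFun_normal_eq_zero Φ.D hD

theorem isClassFunction_fC (l : Φ.A →* ℂˣ) (s : ℂ) : IsClassFunction (Ct t) (Φ.fC l s) :=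
  CfsgLib.Induction.isClassFunction_indFun Φ.D _

theorem isGeneralized_fD (l : Φ.A →* ℂˣ) {s : ℂ} (hs : s = 2 ∨ s = -2) :
    IsGeneralizedCharacter Φ.D (Φ.fD l s) := by
  obtain ⟨w, hw, hw'⟩ := vPM_gen s hs
  have e : Φ.fD l s = (fun h => Φ.lam l h) * fun h : Φ.D => Φ.th w h := by
    funext h
    simp only [fD, Pi.mul_apply, th]
    rw [hw' _ (Φ.pc_mem _) h.2]
  rw [e]
  refine isGeneralizedCharacter_mul (isGeneralizedCharacter_of_isCharacter ?_) ?_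
  · exact CfsgLib.Induction.isCharacter_monoidHom
      ((Units.coeHom ℂ).comp (l.comp (QuotientGroup.mk' (Φ.Q.subgroupOf Φ.D))))
  · obtain ⟨χ, ψ, hχ, hψ, e⟩ := hw
    exact ⟨fun h => χ (Φ.φ h), fun h => ψ (Φ.φ h),
      CfsgLib.CharGalois.isCharacter_comp hχ (Φ.φ.comp Φ.D.subtype),
      CfsgLib.CharGalois.isCharacter_comp hψ (Φ.φ.comp Φ.D.subtype),
      funext fun h => congrFun e (Φ.φ h)⟩

theorem conj_mem_ker {k : Ct t} (hk : k ∈ Φ.φ.ker) (x : Ct t) : x * k * x⁻¹ ∈ Φ.φ.ker :=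
  Subgroup.Normal.conj_mem inferInstance k hk x

variable [Fintype G]

/-- The twisted function has norm three. -/
theorem norm_fC (l : Φ.A →* ℂˣ) (k : Φ.φ.ker) (hk : l (Φ.kA k) ≠ 1) {s : ℂ}
    (hs : s = 2 ∨ s = -2) : classInner (Φ.fC l s) (Φ.fC l s) = 3 := by
  classical
  haveI := Φ.commutative_A
  rw [show classInner (Φ.fC l s) (Φ.fC l s) = classInner (indFun Φ.D (Φ.fD l s)) (Φ.fC l s)
    from rfl, CfsgLib.Induction.classInner_indFun _ _ (Φ.isClassFunction_fC l s), classInner]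
  have hD : (Nat.card Φ.D : ℂ) ≠ 0 := Nat.cast_ne_zero.2 Nat.card_pos.ne'
  let w : Fin 8 → ℂ := fun i => vPM s i * conj (vPM s i)
  have hw : ∑ h : Φ.D, Φ.th w h = 72 * (Φ.κ : ℂ) := by
    rw [Φ.sum_D_th w (by simp [w, vPM]) (by simp [w, vPM]) (by simp [w, vPM])]
    rcases hs with rfl | rfl <;>
      simp [Fin.sum_univ_eight, clsSize, w, vPM, map_ofNat, map_neg] <;> ring
  have hterm : ∀ x : Ct t, ∑ h : Φ.D, Φ.th w h *
      (Φ.lam l h * conj (Φ.lam l ⟨_, Φ.conjD_mem x h⟩)) =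
      if x ∈ Φ.D then 72 * (Φ.κ : ℂ) else 0 := by
    intro x
    have hconj : ∀ h : Φ.D, conj (Φ.lam l h) = (Φ.lam l h)⁻¹ := by
      intro h
      rw [lam, FeitDual.conj_apply, map_inv, Units.val_inv_eq_inv_val]
    split_ifs with hx
    · rw [← hw]
      refine Finset.sum_congr rfl fun h _ => ?_
      have e : ((⟨_, Φ.conjD_mem x h⟩ : Φ.D) : Φ.A) = (h : Φ.A) := by
        rw [show (⟨_, Φ.conjD_mem x h⟩ : Φ.D) = ⟨x, hx⟩ * h * ⟨x, hx⟩⁻¹ from rfl,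
          QuotientGroup.mk_mul, QuotientGroup.mk_mul, QuotientGroup.mk_inv, mul_comm',
          inv_mul_cancel_left]
      rw [hconj, lam, lam, e, mul_inv_cancel₀ (Units.ne_zero _), mul_one]
    · have hxdet : tdet (coords (Φ.φ x)) ≠ 1 := hx
      have hne : (l (Φ.kA k) : ℂ) * (l (Φ.kA k) : ℂ) ≠ 1 := by
        intro e
        have e' : l (Φ.kA k) = (l (Φ.kA k))⁻¹ := eq_inv_iff_mul_eq_one.2 (Units.ext e)
        let ι : Φ.φ.ker →* Φ.A :=
          { toFun := Φ.kA, map_one' := rfl, map_mul' := fun _ _ => rfl }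
        exact Φ.ne_inv_self (l := l.comp ι) hk e'
      let k' : Φ.D := ⟨k, Φ.ker_le_D k.2⟩
      obtain ⟨S, hS⟩ : ∃ S, S = ∑ h : Φ.D, Φ.th w h *
          (Φ.lam l h * conj (Φ.lam l ⟨_, Φ.conjD_mem x h⟩)) := ⟨_, rfl⟩
      have hshift : S = (l (Φ.kA k) : ℂ) * (l (Φ.kA k) : ℂ) * S := by
        conv_lhs => rw [hS, ← Equiv.sum_comp (Equiv.mulRight k')]
        rw [hS, Finset.mul_sum]
        refine Finset.sum_congr rfl fun h _ => ?_
        have e : (⟨_, Φ.conjD_mem x (h * k')⟩ : Φ.D) = ⟨_, Φ.conjD_mem x h⟩ * k'⁻¹ := by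
          refine Subtype.ext ?_
          show x * ((h : Ct t) * (k : Ct t)) * x⁻¹ = x * (h : Ct t) * x⁻¹ * (k : Ct t)⁻¹
          rw [← Φ.invert x hxdet _ k.2]
          group
        show Φ.th w ((h : Ct t) * (k : Ct t)) *
          (Φ.lam l (h * k') * conj (Φ.lam l ⟨_, Φ.conjD_mem x (h * k')⟩)) = _
        rw [e, Φ.lam_mul, Φ.lam_mul, map_mul, Φ.th_mul_ker w k.2, hconj k'⁻¹]
        have e2 : (Φ.lam l k'⁻¹)⁻¹ = (l (Φ.kA k) : ℂ) := by
          simp [lam, kA, k', QuotientGroup.mk_inv]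
        rw [e2, show Φ.lam l k' = (l (Φ.kA k) : ℂ) from rfl]
        ring
      rw [← hS]
      have h0 : ((l (Φ.kA k) : ℂ) * (l (Φ.kA k) : ℂ) - 1) * S = 0 := by
        rw [sub_mul, one_mul, ← hshift, sub_self]
      exact (mul_eq_zero.1 h0).resolve_left (sub_ne_zero.2 hne)
  have hsum : ∑ h : Φ.D, Φ.fD l s h * conj (Φ.fC l s h) =
      (Nat.card Φ.D : ℂ)⁻¹ * ((Nat.card Φ.D : ℂ) * (72 * (Φ.κ : ℂ))) := by
    calc ∑ h : Φ.D, Φ.fD l s h * conj (Φ.fC l s h)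
        = (Nat.card Φ.D : ℂ)⁻¹ * ∑ x : Ct t, ∑ h : Φ.D, Φ.th w h *
            (Φ.lam l h * conj (Φ.lam l ⟨_, Φ.conjD_mem x h⟩)) := by
          rw [Finset.sum_comm, Finset.mul_sum]
          refine Finset.sum_congr rfl fun h _ => ?_
          rw [fC_apply, fD, map_mul, map_mul, map_inv₀, map_natCast, map_sum, Finset.mul_sum,
            Finset.mul_sum, Finset.mul_sum, Finset.mul_sum]
          refine Finset.sum_congr rfl fun x _ => ?_
          simp only [th, w]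
          ring
      _ = _ := by
          rw [Finset.sum_congr rfl fun x _ => hterm x, Finset.sum_ite, Finset.sum_const,
            Finset.sum_const_zero, add_zero, nsmul_eq_mul, ← Fintype.card_subtype,
            ← Nat.card_eq_fintype_card]
  rw [hsum, ← mul_assoc (Nat.card Φ.D : ℂ)⁻¹ (Nat.card Φ.D : ℂ), inv_mul_cancel₀ hD, one_mul,
    Φ.card_D]
  have := Φ.kappa_ne
  field_simp
  norm_num

theorem fC_tC (l : Φ.A →* ℂˣ) (s : ℂ) : Φ.fC l s (tC t) = 8 := by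
  have htD : tC t ∈ Φ.D := Φ.Q_le_D Φ.tC_mem_Q
  rw [show Φ.fC l s (tC t) = Φ.fC l s ((⟨tC t, htD⟩ : Φ.D) : Ct t) from rfl, fC_apply, th_tC]
  have e : ∀ x : Ct t, Φ.lam l ⟨_, Φ.conjD_mem x ⟨tC t, htD⟩⟩ = 1 := fun x =>
    Φ.lam_Q l (Subgroup.Normal.conj_mem inferInstance (tC t) Φ.tC_mem_Q x)
  rw [Finset.sum_congr rfl fun x _ => e x, Finset.sum_const, Finset.card_univ,
    ← Nat.card_eq_fintype_card, nsmul_eq_mul, mul_one, Φ.card_D, Φ.card_Ct]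
  have := Φ.kappa_ne
  push_cast
  simp only [vPM, Matrix.cons_val_one, Matrix.cons_val_zero]
  field_simp
  norm_num

/-- The twisted function on `G`. -/
noncomputable def F (l : Φ.A →* ℂˣ) (s : ℂ) : G → ℂ := indFun (Ct t) (Φ.fC l s)

theorem isGeneralized_F (l : Φ.A →* ℂˣ) {s : ℂ} (hs : s = 2 ∨ s = -2) :
    IsGeneralizedCharacter G (Φ.F l s) :=
  CfsgLib.CharArtin.isGeneralizedCharacter_indFun _
    (CfsgLib.CharArtin.isGeneralizedCharacter_indFun _ (Φ.isGeneralized_fD l hs))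

theorem norm_F (l : Φ.A →* ℂˣ) (k : Φ.φ.ker) (hk : l (Φ.kA k) ≠ 1) {s : ℂ}
    (hs : s = 2 ∨ s = -2) : classInner (Φ.F l s) (Φ.F l s) = 3 := by
  rw [F, Φ.inner_ind _ (Φ.fC_supp l s) (Φ.isClassFunction_fC l s) (Φ.fC_supp l s),
    Φ.norm_fC l k hk hs]

theorem F_one (l : Φ.A →* ℂˣ) (s : ℂ) : Φ.F l s 1 = 0 := Φ.ind_apply_one (Φ.fC_supp l s)

theorem F_t (l : Φ.A →* ℂˣ) (s : ℂ) : Φ.F l s t = 8 := by
  rw [F, Φ.ind_apply_t (Φ.isClassFunction_fC l s) (Φ.fC_supp l s), Φ.fC_tC]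

theorem inner_F (l : Φ.A →* ℂˣ) (s : ℂ) {ψ : G → ℂ} (hψ : IsClassFunction G ψ) :
    classInner (Φ.F l s) ψ = (Nat.card Φ.D : ℂ)⁻¹ *
      ∑ h : Φ.D, Φ.lam l h * (Φ.th (vPM s) h * conj (ψ ((h : Ct t) : G))) := by
  rw [F, CfsgLib.Induction.classInner_indFun _ _ hψ, fC,
    CfsgLib.Induction.classInner_indFun _ _ (fun a b => by
      show ψ ((b : G) * a * (b : G)⁻¹) = ψ a
      exact hψ _ _), classInner]
  congr 1
  exact Finset.sum_congr rfl fun h _ => mul_assoc _ _ _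

theorem inner_F_ind (l : Φ.A →* ℂˣ) (k : Φ.φ.ker) (hk : l (Φ.kA k) ≠ 1) (s : ℂ) (u : Fin 8 → ℂ)
    (hu : ∀ i, i ∉ ({1, 4, 5, 6, 7} : Finset (Fin 8)) → u i = 0) :
    classInner (Φ.F l s) (indFun (Ct t) (Φ.th u)) = 0 := by
  rw [F, Φ.inner_ind _ (Φ.fC_supp l s) (Φ.isClassFunction_th u) (Φ.th_supp hu), fC,
    CfsgLib.Induction.classInner_indFun _ _ (Φ.isClassFunction_th u), classInner]
  rw [show ∑ h : Φ.D, Φ.fD l s h * conj (Φ.th u (h : Ct t)) =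
      ∑ h : Φ.D, Φ.lam l h * Φ.th (fun i => vPM s i * conj (u i)) h from
    Finset.sum_congr rfl fun h _ => mul_assoc _ _ _, Φ.sum_lam_th l k hk, mul_zero]

theorem inner_F_one (l : Φ.A →* ℂˣ) (k : Φ.φ.ker) (hk : l (Φ.kA k) ≠ 1) (s : ℂ) :
    classInner (Φ.F l s) (fun _ => 1) = 0 := by
  rw [Φ.inner_F l s fun _ _ => rfl]
  simp only [map_one, mul_one]
  rw [Φ.sum_lam_th l k hk, mul_zero]

end Frame

end CfsgLib.Suborbit3.Octa
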